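import Groth.Agent.Synt.K562.Rel3
import Groth.Agent.Ega4dB.FlatRegC
import Groth.Agent.Ega4late.H521.QRegSpan
import Groth.Agent.S5802

/-!
# Relative global complete intersections: regularity of the relations at every prime
-/

set_option autoImplicit false

namespace K562.RelReg

open MvPolynomial TensorProduct K562.FieldCI K562.Rel RingTheory.Sequence
open Groth.Agent.Ega4dB.LocReg Groth.Agent.Ega4dB

universe u

section Prime

variable {R : Type u} [CommRing R] {n : ℕ} (q' : Ideal (MvPolynomial (Fin n) R)) [hq' : q'.IsPrime]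

/-- The prime of `R` under `q'`. -/
noncomputable abbrev under : Ideal R := q'.comap (algebraMap R (MvPolynomial (Fin n) R))

/-- A prime of `κ(p)[x]` over `q'`. -/
theorem exists_prime : ∃ (Q : Ideal (MvPolynomial (Fin n) (under q').ResidueField)), Q.IsPrime ∧
    Q.comap (MvPolynomial.map (algebraMap R (under q').ResidueField)) = q' := by
  let P : PrimeSpectrum R := ⟨under q', inferInstance⟩
  let e := PrimeSpectrum.preimageEquivFiber R (MvPolynomial (Fin n) R) P
  let z := e ⟨⟨q', hq'⟩, rfl⟩
  have hz : z.asIdeal.comap (Algebra.TensorProduct.includeRight :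
      MvPolynomial (Fin n) R →ₐ[R] P.asIdeal.Fiber (MvPolynomial (Fin n) R)).toRingHom = q' := by
    have h1 : e.symm z = ⟨⟨q', hq'⟩, rfl⟩ := e.symm_apply_apply _
    exact congrArg (fun y => y.1.asIdeal) h1
  let E := algebraTensorAlgEquiv (σ := Fin n) R (under q').ResidueField
  refine ⟨z.asIdeal.comap (E.symm : _ →+* _), inferInstance, ?_⟩
  rw [Ideal.comap_comap]
  refine Eq.trans ?_ hz
  congr 1
  refine RingHom.ext fun x => ?_
  change E.symm (MvPolynomial.map (algebraMap R (under q').ResidueField) x) = 1 ⊗ₜ x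
  rw [AlgEquiv.symm_apply_eq]
  simp [E]

theorem exists_smul_eq_map (s : MvPolynomial (Fin n) (under q').ResidueField) :
    ∃ r ∉ under q', ∃ b : MvPolynomial (Fin n) R,
      C (algebraMap R (under q').ResidueField r) * s = MvPolynomial.map (algebraMap R (under q').ResidueField) b := by
  let E := algebraTensorAlgEquiv (σ := Fin n) R (under q').ResidueField
  obtain ⟨r, hr, b, hb⟩ := Ideal.Fiber.exists_smul_eq_one_tmul (under q') (E.symm s)
  refine ⟨r, hr, b, ?_⟩
  have h := congrArg E hb
  have h2 : E (r • E.symm s) = C (algebraMap R (under q').ResidueField r) * s := by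
    rw [← algebraMap_smul (under q').ResidueField r (E.symm s), map_smul, AlgEquiv.apply_symm_apply,
      MvPolynomial.smul_eq_C_mul]
  rw [h2] at h
  rw [h]
  simp [E]

theorem tReg_of_semi' {P₁ P : Type*} [CommRing P₁] [CommRing P] (ρ : P₁ →+* P)
    {M₁ M : Type*} [AddCommGroup M₁] [Module P₁ M₁] [AddCommGroup M] [Module P M]
    (e : M₁ ≃+ M) (he : ∀ (p : P₁) (m : M₁), e (p • m) = ρ p • e m)
    {T₁ : Submonoid P₁} {T : Submonoid P} (hT : ∀ t ∈ T, ∃ s ∈ T₁, ∃ u : P, ρ s = u * t) {fs : List P₁}
    (h : TReg T M (fs.map ρ)) : TReg T₁ M₁ fs := by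
  intro i hi m hm
  have hi' : i < (fs.map ρ).length := by simpa using hi
  have h1 : (fs.map ρ)[i] = ρ fs[i] := by simp
  rw [← semi_mem_smul_top_iff ρ e he, Ideal.map_ofList, List.map_take, he, ← h1] at hm
  obtain ⟨s, hs, hs'⟩ := h i hi' _ hm
  obtain ⟨t, ht, u, hu⟩ := hT s hs
  refine ⟨t, ht, ?_⟩
  rw [← semi_mem_smul_top_iff ρ e he, he, hu, mul_smul, Ideal.map_ofList, List.map_take]
  exact Submodule.smul_mem _ u hs'

/-- `R[x] ⊗ κ ≃ κ[x]`. -/
noncomputable def commEquiv (κ : Type u) [CommRing κ] [Algebra R κ] :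
    MvPolynomial (Fin n) R ⊗[R] κ ≃+ MvPolynomial (Fin n) κ :=
  (TensorProduct.comm R (MvPolynomial (Fin n) R) κ).toAddEquiv.trans
    (algebraTensorAlgEquiv (σ := Fin n) R κ).toAddEquiv

theorem commEquiv_tmul (κ : Type u) [CommRing κ] [Algebra R κ] (b : MvPolynomial (Fin n) R) (x : κ) :
    commEquiv κ (b ⊗ₜ x) = C x * MvPolynomial.map (algebraMap R κ) b := by
  rw [← MvPolynomial.smul_eq_C_mul]
  exact algebraTensorAlgEquiv_tmul R κ x b

theorem commEquiv_smul (κ : Type u) [CommRing κ] [Algebra R κ] (b : MvPolynomial (Fin n) R)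
    (z : MvPolynomial (Fin n) R ⊗[R] κ) :
    commEquiv κ (b • z) = MvPolynomial.map (algebraMap R κ) b • commEquiv κ z := by
  induction z using TensorProduct.induction_on with
  | zero => simp
  | add x y hx hy => rw [smul_add, map_add, hx, hy, map_add, smul_add]
  | tmul b' x =>
    rw [TensorProduct.smul_tmul', commEquiv_tmul, commEquiv_tmul, smul_eq_mul, map_mul, smul_eq_mul]
    ring

variable {c : ℕ} (F : Fin c → MvPolynomial (Fin n) R)

/-- The relations are a regular sequence in the localization of the fibre `R[x] ⊗ κ(p)` at `q'`. -/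
theorem isWeaklyRegular_fibre (hqF : Ideal.span (Set.range F) ≤ q') (hcn : c ≤ n)
    (hdim : ringKrullDim (Synt.RelGCIRing (under q').ResidueField n c (mapRel F (under q').ResidueField)) ≤
      ((n - c : ℕ) : WithBot ℕ∞)) :
    IsWeaklyRegular (LocalizedModule q'.primeCompl
      (MvPolynomial (Fin n) R ⊗[R] (under q').ResidueField)) (List.ofFn F) := by
  obtain ⟨Q, hQp, hQ⟩ := exists_prime q'
  have hQF : Ideal.span (Set.range (mapRel F (under q').ResidueField)) ≤ Q := by
    rw [Ideal.span_le]
    rintro _ ⟨i, rfl⟩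
    have : F i ∈ q' := hqF (Ideal.subset_span ⟨i, rfl⟩)
    rw [← hQ] at this
    exact this
  have h1 := K562.FieldDim.isRegular_of_dim_le (under q').ResidueField hcn (mapRel F (under q').ResidueField) hdim Q hQF
  have h2 : TReg Q.primeCompl (MvPolynomial (Fin n) (under q').ResidueField)
      (List.ofFn (mapRel F (under q').ResidueField)) := by
    rw [← isWeaklyRegular_localized_iff Q.primeCompl (Algebra.linearMap _ (Localization.AtPrime Q))]
    have h3 := h1.toIsWeaklyRegular
    rwa [RingTheory.Sequence.isWeaklyRegular_map_algebraMap_iff] at h3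
  rw [isWeaklyRegular_localized_iff q'.primeCompl (LocalizedModule.mkLinearMap q'.primeCompl
    (MvPolynomial (Fin n) R ⊗[R] (under q').ResidueField))]
  refine tReg_of_semi' (MvPolynomial.map (algebraMap R (under q').ResidueField))
    (commEquiv (under q').ResidueField) (commEquiv_smul _) ?_ (T := Q.primeCompl) ?_
  · intro s hs
    obtain ⟨r, hr, b, hb⟩ := exists_smul_eq_map q' s
    refine ⟨b, ?_, _, hb.symm⟩
    intro hb'
    have hb2 : b ∈ q' := hb'
    rw [← hQ, Ideal.mem_comap, ← hb] at hb2
    have hu : IsUnit (C (algebraMap R (under q').ResidueField r) :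
        MvPolynomial (Fin n) (under q').ResidueField) := by
      refine IsUnit.map C (IsUnit.mk0 _ ?_)
      rw [Ne, Ideal.algebraMap_residueField_eq_zero]
      exact hr
    exact hs ((Ideal.unit_mul_mem_iff_mem Q hu).mp hb2)
  · rw [List.map_ofFn]
    exact h2

/-- Regularity and flatness, localized modules form. -/
theorem isWeaklyRegular_and_flat (hqF : Ideal.span (Set.range F) ≤ q') (hcn : c ≤ n)
    (hdim : ringKrullDim (Synt.RelGCIRing (under q').ResidueField n c (mapRel F (under q').ResidueField)) ≤
      ((n - c : ℕ) : WithBot ℕ∞)) :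
    IsWeaklyRegular (LocalizedModule q'.primeCompl (MvPolynomial (Fin n) R)) (List.ofFn F) ∧
      ∀ i, Module.Flat R (LocalizedModule q'.primeCompl (MvPolynomial (Fin n) R ⧸
        (Ideal.ofList ((List.ofFn F).take i) • (⊤ : Submodule (MvPolynomial (Fin n) R) (MvPolynomial (Fin n) R))))) := by
  have hfs : ∀ f ∈ List.ofFn F, f ∈ q' := by
    intro f hf
    obtain ⟨i, rfl⟩ := (List.mem_ofFn' F f).mp hf
    exact hqF (Ideal.subset_span ⟨i, rfl⟩)
  obtain ⟨g, hg, h⟩ := FlatPolyFib.exists_notMem_isWeaklyRegular (A := R) (B := MvPolynomial (Fin n) R)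
    (M := MvPolynomial (Fin n) R) q' (List.ofFn F) hfs
    (inferInstanceAs (Module.Flat R (Localization q'.primeCompl))) (isWeaklyRegular_fibre q' F hqF hcn hdim)
  exact h q' hg

theorem isRegular_atPrime (hqF : Ideal.span (Set.range F) ≤ q') (hcn : c ≤ n)
    (hdim : ringKrullDim (Synt.RelGCIRing (under q').ResidueField n c (mapRel F (under q').ResidueField)) ≤
      ((n - c : ℕ) : WithBot ℕ∞)) :
    IsRegular (Localization.AtPrime q')
      ((List.ofFn F).map (algebraMap (MvPolynomial (Fin n) R) (Localization.AtPrime q'))) := by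
  have h1 := (isWeaklyRegular_and_flat q' F hqF hcn hdim).1
  rw [isWeaklyRegular_localized_iff q'.primeCompl (LocalizedModule.mkLinearMap q'.primeCompl _),
    ← isWeaklyRegular_localized_iff q'.primeCompl (Algebra.linearMap _ (Localization.AtPrime q')),
    ← RingTheory.Sequence.isWeaklyRegular_map_algebraMap_iff (Localization.AtPrime q')] at h1
  refine ⟨h1, ?_⟩
  rw [smul_eq_mul, Ideal.mul_top]
  intro htop
  have hle : Ideal.ofList ((List.ofFn F).map (algebraMap (MvPolynomial (Fin n) R) (Localization.AtPrime q'))) ≤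
      IsLocalRing.maximalIdeal (Localization.AtPrime q') := by
    rw [Ideal.ofList, Ideal.span_le]
    intro x hx
    obtain ⟨f, hf, rfl⟩ := List.mem_map.mp hx
    obtain ⟨i, rfl⟩ := (List.mem_ofFn' F f).mp hf
    have : F i ∈ q' := hqF (Ideal.subset_span ⟨i, rfl⟩)
    exact (IsLocalization.AtPrime.to_map_mem_maximal_iff (Localization.AtPrime q') q' (F i)).mpr this
  exact (IsLocalRing.maximalIdeal.isMaximal _).ne_top (top_le_iff.mp (htop ▸ hle))

theorem flat_atPrime_quot (hqF : Ideal.span (Set.range F) ≤ q') (hcn : c ≤ n)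
    (hdim : ringKrullDim (Synt.RelGCIRing (under q').ResidueField n c (mapRel F (under q').ResidueField)) ≤
      ((n - c : ℕ) : WithBot ℕ∞)) (i : ℕ) :
    Module.Flat R (Localization.AtPrime q' ⧸ Ideal.ofList
        (((List.ofFn F).take i).map (algebraMap (MvPolynomial (Fin n) R) (Localization.AtPrime q')))) := by
  have h1 := (isWeaklyRegular_and_flat q' F hqF hcn hdim).2 i
  rw [flat_iff_tflat q'.primeCompl (LocalizedModule.mkLinearMap q'.primeCompl _),
    ← flat_iff_tflat q'.primeCompl (quotMap (Algebra.linearMap _ (Localization.AtPrime q')) _)] at h1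
  have h2 : ((Ideal.ofList ((List.ofFn F).take i)) • (⊤ : Submodule (MvPolynomial (Fin n) R) (Localization.AtPrime q'))) =
      (Ideal.ofList (((List.ofFn F).take i).map (algebraMap (MvPolynomial (Fin n) R) (Localization.AtPrime q')))).restrictScalars
        (MvPolynomial (Fin n) R) := by
    rw [Ideal.smul_top_eq_map, Ideal.map_ofList]
  rw [h2] at h1
  exact h1

theorem dim_of_isRelGCI (h : Synt.IsRelGCI R n c F) (hqF : Ideal.span (Set.range F) ≤ q') :
    c ≤ n ∧ ringKrullDim (Synt.RelGCIRing (under q').ResidueField n c (mapRel F (under q').ResidueField)) ≤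
      ((n - c : ℕ) : WithBot ℕ∞) := by
  obtain ⟨Q, hQp, hQ⟩ := exists_prime q'
  have hQF : Ideal.span (Set.range (mapRel F (under q').ResidueField)) ≤ Q := by
    rw [Ideal.span_le]
    rintro _ ⟨i, rfl⟩
    have : F i ∈ q' := hqF (Ideal.subset_span ⟨i, rfl⟩)
    rw [← hQ] at this
    exact this
  have hnt : Nontrivial (Synt.RelGCIRing (under q').ResidueField n c (mapRel F (under q').ResidueField)) :=
    Ideal.Quotient.nontrivial_iff.mpr fun htop => hQp.ne_top (top_le_iff.mp (htop ▸ hQF))
  have hnt2 : Nontrivial ((under q').Fiber (Synt.RelGCIRing R n c F)) :=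
    (baseChangeEquiv F (under q').ResidueField).symm.injective.nontrivial
  obtain ⟨h1, h2⟩ := h ⟨under q', inferInstance⟩ hnt2
  have h3 : ringKrullDim ((under q').Fiber (Synt.RelGCIRing R n c F)) =
      ringKrullDim (Synt.RelGCIRing (under q').ResidueField n c (mapRel F (under q').ResidueField)) :=
    ringKrullDim_eq_of_ringEquiv (baseChangeEquiv F (under q').ResidueField).toRingEquiv
  exact ⟨h1, h3 ▸ h2.le⟩

end Prime

section Global

variable {R : Type u} [CommRing R] {n c : ℕ} (F : Fin c → MvPolynomial (Fin n) R)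

/-- A relative global complete intersection is flat. -/
theorem flat_relGCI (h : Synt.IsRelGCI R n c F) : Module.Flat R (Synt.RelGCIRing R n c F) := by
  refine Module.flat_of_isLocalized_maximal (R := R) (S := MvPolynomial (Fin n) R)
    (M := MvPolynomial (Fin n) R ⧸ Ideal.span (Set.range F))
    (fun P _ => LocalizedModule P.primeCompl (MvPolynomial (Fin n) R ⧸ Ideal.span (Set.range F)))
    (fun P _ => LocalizedModule.mkLinearMap P.primeCompl _) fun P hP => ?_
  by_cases hPF : Ideal.span (Set.range F) ≤ P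
  · obtain ⟨hcn, hdim⟩ := dim_of_isRelGCI P F h hPF
    have h1 := (isWeaklyRegular_and_flat P F hPF hcn hdim).2 c
    have h2 : ((Ideal.ofList ((List.ofFn F).take c)) • (⊤ : Submodule (MvPolynomial (Fin n) R) (MvPolynomial (Fin n) R))) =
        Ideal.span (Set.range F) := by
      rw [List.take_of_length_le (by simp), smul_eq_mul, Ideal.mul_top, ofList_ofFn]
    rw [h2] at h1
    exact h1
  · obtain ⟨x, hx, hxP⟩ := Set.not_subset.mp hPF
    have hs : Subsingleton (LocalizedModule P.primeCompl (MvPolynomial (Fin n) R ⧸ Ideal.span (Set.range F))) := by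
      rw [LocalizedModule.subsingleton_iff]
      intro m
      obtain ⟨m, rfl⟩ := Ideal.Quotient.mk_surjective m
      refine ⟨x, hxP, ?_⟩
      change Ideal.Quotient.mk _ (x * m) = 0
      rw [Ideal.Quotient.eq_zero_iff_mem]
      exact Ideal.mul_mem_right _ _ hx
    infer_instance

theorem finitePresentation_relGCI : Algebra.FinitePresentation R (Synt.RelGCIRing R n c F) :=
  Algebra.FinitePresentation.quotient (Submodule.fg_span (Set.finite_range F))

/-- A relative global complete intersection is syntomic. -/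
theorem isSyntomic_relGCI (h : Synt.IsRelGCI R n c F) : Synt.IsSyntomic R (Synt.RelGCIRing R n c F) :=
  ⟨flat_relGCI F h, finitePresentation_relGCI F, fun p =>
    have := finitePresentation_relGCI F
    isLCIOver_of_isGlobalCI _ inferInstance (isGlobalCI_fiber F h p.asIdeal)⟩

/-- The classes of the relations are linearly independent in the conormal module. -/
theorem mem_of_sum_mem (h : Synt.IsRelGCI R n c F) (a : Fin c → MvPolynomial (Fin n) R)
    (ha : ∑ i, a i * F i ∈ Ideal.span (Set.range F) ^ 2) (j : Fin c) : a j ∈ Ideal.span (Set.range F) := by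
  set I : Ideal (MvPolynomial (Fin n) R) := Ideal.span (Set.range F) with hI
  let K : Ideal (MvPolynomial (Fin n) R) := Submodule.colon I {a j}
  have hK : K = ⊤ := by
    by_contra hne
    obtain ⟨q', hq', hle⟩ := Ideal.exists_le_maximal K hne
    have hIK : I ≤ K := fun x hx => by
      rw [Submodule.mem_colon_singleton]
      exact Ideal.mul_mem_right _ _ hx
    have hqF : I ≤ q' := hIK.trans hle
    obtain ⟨hcn, hdim⟩ := dim_of_isRelGCI q' F h hqF
    have h1 := (isRegular_atPrime q' F hqF hcn hdim).toIsWeaklyRegular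
    rw [List.map_ofFn] at h1
    have h2 := Groth.Agent.S5802.result _ c _ h1
    have hrange : Ideal.span (Set.range (algebraMap (MvPolynomial (Fin n) R) (Localization.AtPrime q') ∘ F)) =
        I.map (algebraMap (MvPolynomial (Fin n) R) (Localization.AtPrime q')) := by
      rw [hI, Ideal.map_span, Set.range_comp]
    have h3 := Groth.Agent.Ega4late.H521.QRegSpan.mem_of_sum_mem h2
      (fun i => algebraMap (MvPolynomial (Fin n) R) (Localization.AtPrime q') (a i)) (by
        rw [hrange, ← Ideal.map_pow]
        have := Ideal.mem_map_of_mem (algebraMap (MvPolynomial (Fin n) R) (Localization.AtPrime q')) ha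
        rw [map_sum] at this
        simpa only [map_mul, Function.comp_apply] using this) j
    rw [hrange, IsLocalization.mem_map_algebraMap_iff q'.primeCompl] at h3
    obtain ⟨⟨x, s⟩, hxs⟩ := h3
    dsimp only at hxs
    rw [← map_mul] at hxs
    obtain ⟨t, ht⟩ := (IsLocalization.eq_iff_exists q'.primeCompl _).mp hxs
    have hmem : (t * s : MvPolynomial (Fin n) R) ∈ K := by
      rw [Submodule.mem_colon_singleton, smul_eq_mul, mul_assoc, mul_comm (s : MvPolynomial (Fin n) R), ht]
      exact Ideal.mul_mem_left _ _ x.2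
    exact (q'.primeCompl.mul_mem t.2 s.2) (hle hmem)
  have h1 : (1 : MvPolynomial (Fin n) R) ∈ K := hK ▸ Submodule.mem_top
  rw [Submodule.mem_colon_singleton, one_smul] at h1
  exact h1

theorem linearIndependent_cotangent (h : Synt.IsRelGCI R n c F) :
    LinearIndependent (Synt.RelGCIRing R n c F)
        (fun i : Fin c => (Ideal.span (Set.range F)).toCotangent ⟨F i, Ideal.subset_span (Set.mem_range_self i)⟩) := by
  rw [Fintype.linearIndependent_iff]
  intro g hg j
  choose a ha using fun i => Ideal.Quotient.mk_surjective (I := Ideal.span (Set.range F)) (g i)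
  have h1 : (Ideal.span (Set.range F)).toCotangent (∑ i, a i • (⟨F i, Ideal.subset_span (Set.mem_range_self i)⟩ :
      Ideal.span (Set.range F))) = 0 := by
    rw [map_sum, ← hg]
    refine Finset.sum_congr rfl fun i _ => ?_
    rw [map_smul, ← ha i]
    rfl
  rw [Ideal.toCotangent_eq_zero] at h1
  have h2 := mem_of_sum_mem F h a (by simpa using h1) j
  rw [← ha j, Ideal.Quotient.eq_zero_iff_mem]
  exact h2

theorem span_cotangent :
    Submodule.span (Synt.RelGCIRing R n c F) (Set.range
        (fun i : Fin c => (Ideal.span (Set.range F)).toCotangent ⟨F i, Ideal.subset_span (Set.mem_range_self i)⟩)) = ⊤ := by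
  rw [eq_top_iff]
  rintro x -
  obtain ⟨⟨y, hy⟩, rfl⟩ := (Ideal.span (Set.range F)).toCotangent_surjective x
  obtain ⟨a, ha⟩ := (Ideal.mem_span_range_iff_exists_fun).mp hy
  have h1 : (⟨y, hy⟩ : Ideal.span (Set.range F)) = ∑ i, a i • (⟨F i, Ideal.subset_span (Set.mem_range_self i)⟩ :
      Ideal.span (Set.range F)) := by
    refine Subtype.ext ?_
    simpa using ha.symm
  rw [h1, map_sum]
  refine Submodule.sum_mem _ fun i _ => ?_
  rw [map_smul]
  have h2 : a i • (Ideal.span (Set.range F)).toCotangent ⟨F i, Ideal.subset_span (Set.mem_range_self i)⟩ =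
      (Ideal.Quotient.mk (Ideal.span (Set.range F)) (a i) : Synt.RelGCIRing R n c F) •
        (Ideal.span (Set.range F)).toCotangent ⟨F i, Ideal.subset_span (Set.mem_range_self i)⟩ := rfl
  rw [h2]
  exact Submodule.smul_mem _ _ (Submodule.subset_span ⟨i, rfl⟩)

end Global

end K562.RelReg
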