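import Groth.Agent.Synt.K562.FieldCI3
import Groth.Agent.S2168

/-!
# Complete intersections over a field: localization and maximal ideals
-/

set_option autoImplicit false

namespace K562.FieldCI

open IsLocalRing

universe u

/-- The complete intersection property passes to generizations. -/
theorem isCI_atPrime_of_le {S : Type u} [CommRing S] [IsNoetherianRing S] {p m : Ideal S} [hp : p.IsPrime]
    [m.IsPrime] (hpm : p ≤ m) (h : Pi1.IsCompleteIntersection (Localization.AtPrime m)) :
    Pi1.IsCompleteIntersection (Localization.AtPrime p) := by
  have disj : Disjoint (m.primeCompl : Set S) p := by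
    rw [Set.disjoint_left]
    intro x hx hxp
    exact hx (hpm hxp)
  have hprime : (p.map (algebraMap S (Localization.AtPrime m))).IsPrime :=
    IsLocalization.isPrime_of_isPrime_disjoint m.primeCompl _ _ hp disj
  rw [← isCI_atPrime_comap_iff m.primeCompl (p.map (algebraMap S (Localization.AtPrime m))) p
    (IsLocalization.under_map_of_isPrime_disjoint m.primeCompl (Localization.AtPrime m) hp disj).symm]
  exact Groth.Agent.S2168.result h _

variable (k : Type u) [Field k]

theorem isLCIOver_iff_forall_isMaximal (S : Type u) [CommRing S] [Algebra k S] :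
    Synt.IsLCIOver k S ↔ Algebra.FiniteType k S ∧
      ∀ (m : Ideal S) [m.IsMaximal], Pi1.IsCompleteIntersection (Localization.AtPrime m) := by
  rw [isLCIOver_iff]
  refine and_congr_right fun hft => ⟨fun h m _ => h m, fun h q hq => ?_⟩
  have : IsNoetherianRing S := Algebra.FiniteType.isNoetherianRing k S
  obtain ⟨m, hm, hqm⟩ := Ideal.exists_le_maximal q hq.ne_top
  exact isCI_atPrime_of_le hqm (h m)

/-- Local complete intersections are stable under localization at an element. -/
theorem isLCIOver_away {S : Type u} [CommRing S] [Algebra k S] (h : Synt.IsLCIOver k S) (g : S)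
    (B : Type u) [CommRing B] [Algebra k B] [Algebra S B] [IsScalarTower k S B] [IsLocalization.Away g B] :
    Synt.IsLCIOver k B := by
  rw [isLCIOver_iff] at h ⊢
  obtain ⟨hft, h⟩ := h
  refine ⟨?_, fun q hq => ?_⟩
  · have : Algebra.FiniteType S B := IsLocalization.finiteType_of_monoid_fg (Submonoid.powers g) B
    exact Algebra.FiniteType.trans hft this
  · rw [isCI_atPrime_comap_iff (Submonoid.powers g) q (q.comap (algebraMap S B)) rfl]
    exact h _

end K562.FieldCI
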