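import Groth.Agent.Synt.K562.Rel2
import Groth.Agent.Synt.K562.FieldCI4
import Mathlib.RingTheory.RingHom.Flat
import Mathlib.RingTheory.Finiteness.FinitePresentationLocal

/-!
# Syntomic algebras: dictionary and locality on the source
-/

set_option autoImplicit false

namespace K562.Rel

open MvPolynomial TensorProduct K562.FieldCI

universe u

section Field

variable (k : Type u) [Field k]

theorem isLCIOver_of_algEquiv {S T : Type u} [CommRing S] [CommRing T] [Algebra k S] [Algebra k T]
    (e : S ≃ₐ[k] T) (h : Synt.IsLCIOver k S) : Synt.IsLCIOver k T := by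
  rw [isLCIOver_iff] at h ⊢
  refine ⟨h.1.equiv e, fun q hq => ?_⟩
  rw [isCI_atPrime_iff_of_ringEquiv e.toRingEquiv q (q.comap e.toRingEquiv) rfl]
  exact h.2 _

/-- A finite type algebra covered by local complete intersections is one. -/
theorem isLCIOver_of_forall_exists {S : Type u} [CommRing S] [Algebra k S] (hft : Algebra.FiniteType k S)
    (h : ∀ (q : Ideal S) [q.IsPrime], ∃ g : S, g ∉ q ∧ Synt.IsLCIOver k (Localization.Away g)) :
    Synt.IsLCIOver k S := by
  rw [isLCIOver_iff]
  refine ⟨hft, fun q hq => ?_⟩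
  obtain ⟨g, hg, hl⟩ := h q
  have disj : Disjoint (Submonoid.powers g : Set S) q := by
    rw [Set.disjoint_left]
    rintro _ ⟨m, rfl⟩ hm
    exact hg (Ideal.IsPrime.mem_of_pow_mem inferInstance m hm)
  have hprime : (q.map (algebraMap S (Localization.Away g))).IsPrime :=
    IsLocalization.isPrime_of_isPrime_disjoint (Submonoid.powers g) _ _ inferInstance disj
  rw [← isCI_atPrime_comap_iff (Submonoid.powers g)
    (q.map (algebraMap S (Localization.Away g))) q
    (IsLocalization.under_map_of_isPrime_disjoint (Submonoid.powers g) (Localization.Away g)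
      inferInstance disj).symm]
  exact ((isLCIOver_iff k _).mp hl).2 _

theorem isLCIOver_of_isGlobalCI {S : Type u} [CommRing S] [Algebra k S] (hft : Algebra.FiniteType k S)
    (h : Synt.IsGlobalCI k S) : Synt.IsLCIOver k S :=
  (isLCIOver_iff k S).mpr ⟨hft, fun q _ => isCI_atPrime_of_isGlobalCI k h q⟩

end Field

section Syntomic

variable {R S : Type u} [CommRing R] [CommRing S] [Algebra R S]

theorem isSyntomic_iff : Synt.IsSyntomic R S ↔ Module.Flat R S ∧ Algebra.FinitePresentation R S ∧
    ∀ (p : Ideal R) [p.IsPrime] (Q : Ideal (p.Fiber S)) [Q.IsPrime],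
      Pi1.IsCompleteIntersection (Localization.AtPrime Q) := by
  constructor
  · rintro ⟨h1, h2, h3⟩
    exact ⟨h1, h2, fun p hp Q hQ => ((isLCIOver_iff _ _).mp (h3 ⟨p, hp⟩)).2 Q⟩
  · rintro ⟨h1, h2, h3⟩
    refine ⟨h1, h2, fun p => (isLCIOver_iff _ _).mpr ⟨?_, fun Q _ => h3 p.asIdeal Q⟩⟩
    infer_instance

theorem isSyntomic_of_algEquiv {T : Type u} [CommRing T] [Algebra R T] (e : S ≃ₐ[R] T)
    (h : Synt.IsSyntomic R S) : Synt.IsSyntomic R T := by
  obtain ⟨h1, h2, h3⟩ := h
  exact ⟨Module.Flat.of_linearEquiv e.symm.toLinearEquiv, h2.equiv e,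
    fun p => isLCIOver_of_algEquiv _ (fiberCongr e p.asIdeal) (h3 p)⟩

/-- Localizations of syntomic algebras are syntomic. -/
theorem isSyntomic_away (h : Synt.IsSyntomic R S) (g : S) : Synt.IsSyntomic R (Localization.Away g) := by
  obtain ⟨h1, h2, h3⟩ := h
  have hflat : Module.Flat S (Localization.Away g) := IsLocalization.flat _ (Submonoid.powers g)
  have hfp : Algebra.FinitePresentation S (Localization.Away g) := IsLocalization.Away.finitePresentation g
  refine ⟨Module.Flat.trans R S _, Algebra.FinitePresentation.trans R S _, fun p => ?_⟩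
  refine isLCIOver_of_algEquiv _ (fiberAway p.asIdeal g).symm ?_
  exact isLCIOver_away _ (h3 p) ((1 : p.asIdeal.ResidueField) ⊗ₜ[R] g : p.asIdeal.Fiber S) _

/-- Being syntomic is local on the spectrum of the target ring. -/
theorem isSyntomic_of_span (s : Set S) (hs : Ideal.span s = ⊤)
    (h : ∀ g ∈ s, Synt.IsSyntomic R (Localization.Away g)) : Synt.IsSyntomic R S := by
  refine ⟨?_, ?_, fun p => ?_⟩
  · rw [← RingHom.flat_algebraMap_iff]
    refine RingHom.Flat.ofLocalizationSpanTarget (algebraMap R S) s hs fun r => ?_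
    rw [← IsScalarTower.algebraMap_eq]
    exact RingHom.flat_algebraMap_iff.mpr (h r.1 r.2).1
  · exact Algebra.FinitePresentation.of_span_eq_top_target s hs fun g hg => (h g hg).2.1
  · have hft : Algebra.FiniteType R S :=
      Algebra.FiniteType.of_span_eq_top_target s hs fun g hg => by
        have := (h g hg).2.1
        infer_instance
    refine isLCIOver_of_forall_exists _ inferInstance fun Q hQ => ?_
    obtain ⟨g, hg, hgq⟩ : ∃ g ∈ s, g ∉ Q.comap (Algebra.TensorProduct.includeRight : S →ₐ[R] p.asIdeal.Fiber S) := by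
      by_contra hcon
      push Not at hcon
      have h1 : Ideal.span s ≤ Q.comap (Algebra.TensorProduct.includeRight : S →ₐ[R] p.asIdeal.Fiber S) :=
        Ideal.span_le.mpr hcon
      rw [hs] at h1
      have : (Q.comap (Algebra.TensorProduct.includeRight : S →ₐ[R] p.asIdeal.Fiber S)).IsPrime := inferInstance
      exact this.ne_top (top_le_iff.mp h1)
    exact ⟨(1 : p.asIdeal.ResidueField) ⊗ₜ[R] g, hgq,
      isLCIOver_of_algEquiv _ (fiberAway p.asIdeal g) ((h g hg).2.2 p)⟩

theorem isSyntomic_of_forall_exists (h : ∀ (q : Ideal S) [q.IsPrime], ∃ g : S, g ∉ q ∧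
    Synt.IsSyntomic R (Localization.Away g)) : Synt.IsSyntomic R S := by
  refine isSyntomic_of_span {g | Synt.IsSyntomic R (Localization.Away g)} ?_ fun g hg => hg
  by_contra hne
  obtain ⟨m, hm, hle⟩ := Ideal.exists_le_maximal _ hne
  obtain ⟨g, hg, hg'⟩ := h m
  exact hg (hle (Ideal.subset_span hg'))

end Syntomic

end K562.Rel
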