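import Groth.Agent.Models.CotangentFlat
import Groth.Agent.Models.KoszulCot
import Groth.Agent.Flat2H.KoszulPerf
import Groth.Agent.Dual.H366.SmoothLCI
import Groth.Agent.Synt.K561.SynLci

/-!
# The conormal module of a presentation which is syntomic on a basic open
-/

set_option autoImplicit false

namespace K562.CotLoc

open TensorProduct Groth.Agent.Models.CotangentLoc Groth.Agent.Models.CotangentFlat

universe u

section Transfer

attribute [local instance] RingHomInvPair.of_ringEquiv in
theorem transfer {A M : Type*} [CommRing A] (T : Submonoid A) [AddCommGroup M] [Module A M]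
    (B N : Type*) [CommRing B] [Algebra A B] [IsLocalization T B] [AddCommGroup N] [Module A N] [Module B N]
    [IsScalarTower A B N] (f : M →ₗ[A] N) [IsLocalizedModule T f] (hfin : Module.Finite B N)
    (hproj : Module.Projective B N) :
    Module.Finite (Localization T) (LocalizedModule T M) ∧ Module.Projective (Localization T) (LocalizedModule T M) := by
  let e₁ : B ≃ₐ[A] Localization T := IsLocalization.algEquiv T _ _
  let e : N ≃ₗ[A] LocalizedModule T M := (IsLocalizedModule.iso T f).symm
  have hsm : ∀ (b : B) (y : N), e (b • y) = e₁ b • e y := by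
    intro b y
    obtain ⟨⟨a, t⟩, hb⟩ := IsLocalization.surj T b
    dsimp only at hb
    have ht : IsUnit (algebraMap A (Localization T) t) := IsLocalization.map_units _ t
    have h1 : algebraMap A (Localization T) t • e (b • y) = algebraMap A (Localization T) t • (e₁ b • e y) := by
      rw [algebraMap_smul, ← map_smul, smul_smul, ← e₁.commutes, ← map_mul, mul_comm (algebraMap A B _), hb,
        e₁.commutes, algebraMap_smul, ← map_smul, ← algebraMap_smul B (t : A) (b • y), smul_smul,
        mul_comm (algebraMap A B _), hb, algebraMap_smul]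
    exact (IsUnit.smul_left_cancel ht).mp h1
  let σ : B ≃+* Localization T := e₁.toRingEquiv
  let e₂ : N ≃ₛₗ[RingHomClass.toRingHom σ] LocalizedModule T M :=
    { e with map_smul' := fun b y => hsm b y }
  exact ⟨Module.Finite.of_surjective e₂.toLinearMap e₂.surjective, Module.Projective.of_equiv e₂⟩

end Transfer

section Cot

variable {P : Type u} [CommRing P] (I : Ideal P)

theorem finite_projective_of_koszul (J : Ideal P) (h : LCI.IsKoszulRegularIdeal J) :
    Module.Finite (P ⧸ J) J.Cotangent ∧ Module.Projective (P ⧸ J) J.Cotangent := by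
  have h1 := Groth.Agent.Flat2H.KoszulPerf.fpInf_quotient h
  have h2 : Groth.Agent.Flat2H.FPInf P (LinearMap.ker J.mkQ) :=
    Groth.Agent.Flat2H.FPInf.ker _ (Submodule.mkQ_surjective _)
      (Groth.Agent.Flat2H.FPInf.of_projective _) h1
  have h3 : Module.FinitePresentation P (LinearMap.ker J.mkQ) := by
    obtain ⟨k, f, hf, hk⟩ := h2 1
    have : Module.Finite P (LinearMap.ker f) := hk.finite
    exact Module.finitePresentation_of_surjective f hf (Module.Finite.iff_fg.1 this)
  have h4 : Module.FinitePresentation P J := by
    have : LinearMap.ker J.mkQ = J := Submodule.ker_mkQ _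
    rw [this] at h3
    exact h3
  have h5 : Module.FinitePresentation (P ⧸ J) ((P ⧸ J) ⊗[P] J) := inferInstance
  have htow : IsScalarTower P (P ⧸ J) J.Cotangent := ⟨fun a b x => by
    obtain ⟨b, rfl⟩ := Ideal.Quotient.mk_surjective b
    exact smul_assoc a b x⟩
  let e0 : ((P ⧸ J) ⊗[P] J) ≃ₗ[P] J.Cotangent := TensorProduct.quotTensorEquivQuotSMul J J
  have h6 : Module.FinitePresentation (P ⧸ J) J.Cotangent :=
    Module.FinitePresentation.of_equiv (LinearEquiv.extendScalarsOfSurjective
      (R := P) (S := P ⧸ J) Ideal.Quotient.mk_surjective e0)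
  have h7 : Module.Flat (P ⧸ J) J.Cotangent := Groth.Agent.Models.KoszulCot.flat_cotangent h
  exact ⟨inferInstance, Module.Flat.projective_of_finitePresentation⟩

/-- If the extension of `I` to `P_g` is Koszul-regular, `(I/I²)_g` is finite projective. -/
theorem localized_cotangent (g : P)
    (h : LCI.IsKoszulRegularIdeal (I.map (algebraMap P (Localization.Away g)))) :
    Module.Finite (Localization.Away (Ideal.Quotient.mk I g))
        (LocalizedModule (Submonoid.powers (Ideal.Quotient.mk I g)) I.Cotangent) ∧
      Module.Projective (Localization.Away (Ideal.Quotient.mk I g))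
        (LocalizedModule (Submonoid.powers (Ideal.Quotient.mk I g)) I.Cotangent) := by
  set J := I.map (algebraMap P (Localization.Away g)) with hJ
  obtain ⟨hfin, hproj⟩ := finite_projective_of_koszul J h
  let instM : Module (P ⧸ I) J.Cotangent :=
    Module.compHom _ (algebraMap (P ⧸ I) (Localization.Away g ⧸ J))
  let f : I.Cotangent →ₗ[P ⧸ I] J.Cotangent :=
    { toFun := cotMap (Localization.Away g) I
      map_add' := map_add _
      map_smul' := fun c m => smul_cotMap (Localization.Away g) I c m }
  have tower' : IsScalarTower P (Localization.Away g ⧸ J) J.Cotangent := ⟨fun a b x => by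
    obtain ⟨b, rfl⟩ := Ideal.Quotient.mk_surjective b
    obtain ⟨x, rfl⟩ := Ideal.toCotangent_surjective _ x
    have h1 : a • Ideal.Quotient.mk J b = Ideal.Quotient.mk _ (a • b) := rfl
    have h2 (c : Localization.Away g) (y : J.Cotangent) : Ideal.Quotient.mk J c • y = c • y := rfl
    rw [h1, h2, h2, ← algebraMap_smul (Localization.Away g) a b,
      ← algebraMap_smul (Localization.Away g) a (b • _), smul_eq_mul, mul_smul]⟩
  have tower'' : IsScalarTower (P ⧸ I) (Localization.Away g ⧸ J) J.Cotangent := ⟨fun a b x => by
    rw [Algebra.smul_def, mul_smul]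
    rfl⟩
  have tower : IsScalarTower P (P ⧸ I) J.Cotangent := ⟨fun a b x => by
    change algebraMap (P ⧸ I) (Localization.Away g ⧸ J) (a • b) • x =
      a • (algebraMap (P ⧸ I) (Localization.Away g ⧸ J) b • x)
    have h3 : algebraMap (P ⧸ I) (Localization.Away g ⧸ J) (a • b) =
        a • algebraMap (P ⧸ I) (Localization.Away g ⧸ J) b := by
      rw [Algebra.algebraMap_eq_smul_one, Algebra.algebraMap_eq_smul_one,
        smul_assoc a b (1 : Localization.Away g ⧸ J)]
    rw [h3]
    exact smul_assoc _ _ _⟩
  have loc : IsLocalizedModule (Submonoid.powers (Ideal.Quotient.mk I g)) f := by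
    have h1 : IsLocalizedModule (Submonoid.powers g) (f.restrictScalars P) :=
      isLocalizedModule_cotMap (Submonoid.powers g) (Localization.Away g) I
    refine isLocalizedModule_quotient (Submonoid.powers g) I f _ ?_
    rw [Submonoid.map_powers]
  have hloc : IsLocalization (Submonoid.powers (Ideal.Quotient.mk I g)) (Localization.Away g ⧸ J) := by
    have h1 : IsLocalization (Algebra.algebraMapSubmonoid (P ⧸ I) (Submonoid.powers g)) (Localization.Away g ⧸ J) :=
      inferInstance
    rwa [Algebra.algebraMapSubmonoid_powers] at h1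
  exact transfer (Submonoid.powers (Ideal.Quotient.mk I g)) (Localization.Away g ⧸ J) J.Cotangent f hfin hproj

end Cot

section Main

variable {R : Type u} [CommRing R] {P : Type u} [CommRing P] [Algebra R P] [Algebra.Smooth R P] (I : Ideal P)

/-- The conormal module of a quotient of a smooth algebra is projective where the quotient is syntomic. -/
theorem localized_cotangent_of_isSyntomic (g : P ⧸ I) (hg : Synt.IsSyntomic R (Localization.Away g)) :
    Module.Finite (Localization.Away g) (LocalizedModule (Submonoid.powers g) I.Cotangent) ∧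
      Module.Projective (Localization.Away g) (LocalizedModule (Submonoid.powers g) I.Cotangent) := by
  obtain ⟨g, rfl⟩ := Ideal.Quotient.mk_surjective g
  apply localized_cotangent I g
  have h1 := (K561.SynLci.isSyntomic_iff_isLCI.mp hg).2
  let φ : Localization.Away g →ₐ[R] Localization.Away (Ideal.Quotient.mk I g) :=
    IsLocalization.liftAlgHom (M := Submonoid.powers g)
      (f := (IsScalarTower.toAlgHom R (P ⧸ I) (Localization.Away (Ideal.Quotient.mk I g))).comp (Ideal.Quotient.mkₐ R I))
      (by
        rintro ⟨_, m, rfl⟩
        rw [map_pow]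
        exact (IsLocalization.Away.algebraMap_isUnit (S := Localization.Away (Ideal.Quotient.mk I g))
          (Ideal.Quotient.mk I g)).pow m)
  have hφa : ∀ x : P, φ (algebraMap P _ x) = algebraMap (P ⧸ I) _ (Ideal.Quotient.mk I x) := fun x => by
    simp [φ]
  have hφ : Function.Surjective φ := by
    intro y
    obtain ⟨n, a, hy⟩ := IsLocalization.Away.surj (Ideal.Quotient.mk I g) y
    obtain ⟨a, rfl⟩ := Ideal.Quotient.mk_surjective a
    refine ⟨algebraMap P _ a * IsLocalization.Away.invSelf g ^ n, ?_⟩
    have hu : IsUnit (algebraMap (P ⧸ I) (Localization.Away (Ideal.Quotient.mk I g)) (Ideal.Quotient.mk I g) ^ n) :=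
      (IsLocalization.Away.algebraMap_isUnit _).pow n
    apply hu.mul_left_injective
    dsimp only
    rw [hy, ← hφa, ← hφa, ← map_pow, ← map_mul, mul_assoc, ← mul_pow, mul_comm (IsLocalization.Away.invSelf g),
      IsLocalization.Away.mul_invSelf, one_pow, mul_one]
  have hker : RingHom.ker φ.toRingHom = I.map (algebraMap P (Localization.Away g)) := by
    refine le_antisymm (fun x hx => ?_) ?_
    · have hx' : φ x = 0 := hx
      obtain ⟨n, a, hxa⟩ := IsLocalization.Away.surj g x
      have h2 : algebraMap (P ⧸ I) (Localization.Away (Ideal.Quotient.mk I g)) (Ideal.Quotient.mk I a) = 0 := by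
        rw [← hφa, ← hxa, map_mul, hx', zero_mul]
      obtain ⟨⟨_, m, rfl⟩, hm⟩ := (IsLocalization.map_eq_zero_iff (Submonoid.powers (Ideal.Quotient.mk I g)) _ _).mp h2
      dsimp only at hm
      rw [← map_pow, ← map_mul, Ideal.Quotient.eq_zero_iff_mem] at hm
      have h3 := Ideal.mem_map_of_mem (algebraMap P (Localization.Away g)) hm
      have hu : IsUnit (algebraMap P (Localization.Away g) g) := IsLocalization.Away.algebraMap_isUnit g
      rw [map_mul, map_pow, Ideal.unit_mul_mem_iff_mem _ (hu.pow m), ← hxa, Ideal.mul_unit_mem_iff_mem _ (hu.pow n)] at h3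
      exact h3
    · rw [Ideal.map_le_iff_le_comap]
      intro x hx
      change φ (algebraMap P _ x) = 0
      rw [hφa, Ideal.Quotient.eq_zero_iff_mem.mpr hx, map_zero]
  rw [← hker]
  have hsm : Algebra.Smooth R (Localization.Away g) := by
    have : Algebra.Smooth P (Localization.Away g) := inferInstance
    exact Algebra.Smooth.comp R P (Localization.Away g)
  exact Groth.Agent.Dual.H366.SmoothLCI.isKoszulRegularIdeal_ker_of_smooth h1 φ hφ

end Main


end K562.CotLoc
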