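import Groth.Agent.Synt.K562.Rel5
import Groth.Agent.Synt.K563.SynNhd

/-!
# Lifting syntomic algebras locally
-/

set_option autoImplicit false

namespace K562.LiftSyn

open MvPolynomial TensorProduct K562.FieldCI K562.Rel

universe u

section Quot

variable {R S T : Type u} [CommRing R] [CommRing S] [CommRing T] [Algebra R S] [Algebra R T]

/-- Quotients of isomorphic algebras by the extension of an ideal. -/
noncomputable def quotCongr (I : Ideal R) (e : S ≃ₐ[R] T) :
    (S ⧸ I.map (algebraMap R S)) ≃ₐ[R] (T ⧸ I.map (algebraMap R T)) :=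
  Ideal.quotientEquivAlg _ _ e (by
    rw [Ideal.map_map]
    congr 1
    ext x
    exact (e.commutes x).symm)

/-- If `g` is `1` modulo `I`, then `S_g / I S_g = S / I S`. -/
theorem nonempty_quotient_away (I : Ideal R) (g : S) (hg : Ideal.Quotient.mk (I.map (algebraMap R S)) g = 1) :
    Nonempty ((S ⧸ I.map (algebraMap R S)) ≃ₐ[R]
      (Localization.Away g ⧸ I.map (algebraMap R (Localization.Away g)))) := by
  have h1 : I.map (algebraMap R (Localization.Away g)) =
      (I.map (algebraMap R S)).map (algebraMap S (Localization.Away g)) := by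
    rw [Ideal.map_map, ← IsScalarTower.algebraMap_eq]
  have h2 : IsLocalization (Algebra.algebraMapSubmonoid (S ⧸ I.map (algebraMap R S)) (Submonoid.powers g))
      (Localization.Away g ⧸ (I.map (algebraMap R S)).map (algebraMap S (Localization.Away g))) := inferInstance
  have h3 : Algebra.algebraMapSubmonoid (S ⧸ I.map (algebraMap R S)) (Submonoid.powers g) ≤
      IsUnit.submonoid (S ⧸ I.map (algebraMap R S)) := by
    rw [Algebra.algebraMapSubmonoid_powers, Submonoid.powers_le]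
    change IsUnit (Ideal.Quotient.mk (I.map (algebraMap R S)) g)
    rw [hg]
    exact isUnit_one
  let e := IsLocalization.atUnits (S ⧸ I.map (algebraMap R S)) _ (S :=
    Localization.Away g ⧸ (I.map (algebraMap R S)).map (algebraMap S (Localization.Away g))) h3
  refine ⟨(AlgEquiv.ofRingEquiv (f := e.toRingEquiv) fun r => ?_).trans (Ideal.quotientEquivAlgOfEq R h1.symm)⟩
  change e (algebraMap R _ r) = _
  rw [IsScalarTower.algebraMap_apply R S (S ⧸ I.map (algebraMap R S))]
  exact e.commutes _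

end Quot

section Key

variable {R : Type u} [CommRing R] (I : Ideal R)

theorem exists_lift_relGCI (n c : ℕ) (Fb : Fin c → MvPolynomial (Fin n) (R ⧸ I)) (h : Synt.IsRelGCI (R ⧸ I) n c Fb) :
    ∃ (F : Fin (c + 1) → MvPolynomial (Fin (n + 1)) R), Synt.IsRelGCI R (n + 1) (c + 1) F ∧
      Nonempty (Synt.RelGCIRing (R ⧸ I) n c Fb ≃ₐ[R]
        (Synt.RelGCIRing R (n + 1) (c + 1) F ⧸ I.map (algebraMap R (Synt.RelGCIRing R (n + 1) (c + 1) F)))) := by
  have hsurj : Function.Surjective (MvPolynomial.map (σ := Fin n) (Ideal.Quotient.mk I)) :=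
    MvPolynomial.map_surjective _ Ideal.Quotient.mk_surjective
  choose F hF using fun i => hsurj (Fb i)
  obtain rfl : (fun i => MvPolynomial.map (Ideal.Quotient.mk I) (F i)) = Fb := funext hF
  obtain ⟨g, hg, hrel⟩ := exists_of_quotient F I h
  obtain ⟨e1⟩ := nonempty_quotient_away I _ hg
  let e2 := quotCongr I (K562.LocPres.equiv F g)
  let e3 : (Synt.RelGCIRing R n c F ⧸ I.map (algebraMap R (Synt.RelGCIRing R n c F))) ≃ₐ[R]
      (R ⧸ I) ⊗[R] Synt.RelGCIRing R n c F :=
    (Algebra.TensorProduct.quotIdealMapEquivQuotTensor (Synt.RelGCIRing R n c F) I).restrictScalars R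
  let e4 : (R ⧸ I) ⊗[R] Synt.RelGCIRing R n c F ≃ₐ[R] Synt.RelGCIRing (R ⧸ I) n c (mapRel F (R ⧸ I)) :=
    (baseChangeEquiv F (R ⧸ I)).restrictScalars R
  exact ⟨_, hrel, ⟨(e4.symm.trans e3.symm).trans (e1.trans e2)⟩⟩

theorem exists_cover (Sb : Type u) [CommRing Sb]
    [Algebra R Sb] [Algebra (R ⧸ I) Sb] [IsScalarTower R (R ⧸ I) Sb] (h : Synt.IsSyntomic (R ⧸ I) Sb) :
    ∃ s : Finset Sb, Ideal.span (s : Set Sb) = ⊤ ∧ ∀ g ∈ s,
      ∃ (n c : ℕ) (F : Fin c → MvPolynomial (Fin n) R), Synt.IsRelGCI R n c F ∧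
        Nonempty (Localization.Away g ≃ₐ[R]
          (Synt.RelGCIRing R n c F ⧸ I.map (algebraMap R (Synt.RelGCIRing R n c F)))) := by
  let T : Set Sb := {g | ∃ (n c : ℕ) (F : Fin c → MvPolynomial (Fin n) R), Synt.IsRelGCI R n c F ∧
        Nonempty (Localization.Away g ≃ₐ[R]
          (Synt.RelGCIRing R n c F ⧸ I.map (algebraMap R (Synt.RelGCIRing R n c F))))}
  have hT : Ideal.span T = ⊤ := by
    by_contra hne
    obtain ⟨q, hq, hle⟩ := Ideal.exists_le_maximal _ hne
    obtain ⟨a, ha, n, c, F, hcn, hF, ⟨e⟩⟩ := K563.SynNhd.exists_relGCI_of_isSyntomic h q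
    obtain ⟨F', hF', ⟨e'⟩⟩ := exists_lift_relGCI I n c F hF
    exact ha (hle (Ideal.subset_span ⟨n + 1, c + 1, F', hF', ⟨(e.restrictScalars R).trans e'⟩⟩))
  obtain ⟨s, hs, hs'⟩ := (Ideal.span_eq_top_iff_finite T).mp hT
  exact ⟨s, hs', fun g hg => hs hg⟩

end Key

end K562.LiftSyn
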