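import Groth.Agent.Synt.K562.Rel1
import Groth.Agent.FlatA.FibreQF

/-!
# Relative global complete intersections: criterion and semicontinuity
-/

set_option autoImplicit false

namespace K562.Rel

open MvPolynomial TensorProduct K562.FieldCI

universe u

section Crit

variable {R : Type u} [CommRing R] {n c : ℕ} (F : Fin c → MvPolynomial (Fin n) R)

/-- The presentation of the fibre. -/
noncomputable def fibPres (p : Ideal R) [p.IsPrime] :
    MvPolynomial (Fin n) p.ResidueField →ₐ[p.ResidueField] p.Fiber (Synt.RelGCIRing R n c F) :=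
  (baseChangeEquiv F p.ResidueField).symm.toAlgHom.comp (Ideal.Quotient.mkₐ _ _)

theorem fibPres_surjective (p : Ideal R) [p.IsPrime] : Function.Surjective (fibPres F p) :=
  (baseChangeEquiv F p.ResidueField).symm.surjective.comp Ideal.Quotient.mk_surjective

theorem ker_fibPres (p : Ideal R) [p.IsPrime] :
    RingHom.ker (fibPres F p).toRingHom = Ideal.span (Set.range (mapRel F p.ResidueField)) := by
  ext x
  simp only [RingHom.mem_ker]
  change (baseChangeEquiv F p.ResidueField).symm (Ideal.Quotient.mk _ x) = 0 ↔ _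
  rw [EmbeddingLike.map_eq_zero_iff, Ideal.Quotient.eq_zero_iff_mem]

theorem le_ringKrullDim_fiber (p : Ideal R) [p.IsPrime] [Nontrivial (p.Fiber (Synt.RelGCIRing R n c F))] :
    ((n - c : ℕ) : WithBot ℕ∞) ≤ ringKrullDim (p.Fiber (Synt.RelGCIRing R n c F)) :=
  by
  have hnt : Nontrivial (Synt.RelGCIRing p.ResidueField n c (mapRel F p.ResidueField)) :=
    (baseChangeEquiv F p.ResidueField).injective.nontrivial
  rw [ringKrullDim_eq_of_ringEquiv (baseChangeEquiv F p.ResidueField).toRingEquiv]
  exact le_ringKrullDim p.ResidueField (mapRel F p.ResidueField) (Ideal.Quotient.nontrivial_iff.mp hnt)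

theorem isRelGCI_of_le (h : ∀ (p : Ideal R) [p.IsPrime], Nontrivial (p.Fiber (Synt.RelGCIRing R n c F)) →
    c ≤ n ∧ ringKrullDim (p.Fiber (Synt.RelGCIRing R n c F)) ≤ ((n - c : ℕ) : WithBot ℕ∞)) :
    Synt.IsRelGCI R n c F := by
  intro p hp
  obtain ⟨h1, h2⟩ := h p.asIdeal hp
  exact ⟨h1, le_antisymm h2 (le_ringKrullDim_fiber F p.asIdeal)⟩

/-- The fibres of a relative global complete intersection are global complete intersections. -/
theorem isGlobalCI_fiber (h : Synt.IsRelGCI R n c F) (p : Ideal R) [hp : p.IsPrime] :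
    Synt.IsGlobalCI p.ResidueField (p.Fiber (Synt.RelGCIRing R n c F)) := by
  rcases subsingleton_or_nontrivial (p.Fiber (Synt.RelGCIRing R n c F)) with hs | hs
  · exact Or.inl hs
  obtain ⟨h1, h2⟩ := h ⟨p, hp⟩ hs
  exact Or.inr ⟨n, c, h1, fibPres F p, mapRel F p.ResidueField, fibPres_surjective F p, ker_fibPres F p, h2⟩

end Crit

section Fib

variable {R S : Type u} [CommRing R] [CommRing S] [Algebra R S]

/-- The fibres of isomorphic algebras are isomorphic. -/
noncomputable def fiberCongr {T : Type u} [CommRing T] [Algebra R T] (e : S ≃ₐ[R] T) (p : Ideal R)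
    [p.IsPrime] : p.Fiber S ≃ₐ[p.ResidueField] p.Fiber T :=
  Algebra.TensorProduct.congr (AlgEquiv.refl : p.ResidueField ≃ₐ[p.ResidueField] _) e

/-- The fibre of a basic open is a basic open of the fibre. -/
noncomputable def fiberAway (p : Ideal R) [p.IsPrime] (g : S) :
    p.Fiber (Localization.Away g) ≃ₐ[p.ResidueField]
      Localization.Away ((1 : p.ResidueField) ⊗ₜ[R] g : p.Fiber S) :=
  IsLocalization.Away.tensorProductEquivTMulRight R p.ResidueField g (Localization.Away g)

/-- Semicontinuity: if the fibre has local dimension at most `m` at `q`, all fibres of some `S_g`, `g ∉ q` have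
dimension at most `m`. -/
theorem exists_away_fiber_dim_le [Algebra.FiniteType R S] (p : Ideal R) [p.IsPrime] (Q : Ideal (p.Fiber S))
    [hQ : Q.IsPrime] (q : Ideal S)
    (hq : Q.comap (Algebra.TensorProduct.includeRight : S →ₐ[R] p.Fiber S).toRingHom = q)
    (m : ℕ) (h : FlatMor.localDim (PrimeSpectrum (p.Fiber S)) ⟨Q, hQ⟩ ≤ m) :
    ∃ g : S, g ∉ q ∧ ∀ (p' : Ideal R) [p'.IsPrime], ringKrullDim (p'.Fiber (Localization.Away g)) ≤ m := by
  let P : PrimeSpectrum R := ⟨p, inferInstance⟩
  let e := PrimeSpectrum.preimageHomeomorphFiber R S P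
  let z := e.symm ⟨Q, hQ⟩
  have hz : z.1.asIdeal = q := by
    rw [← hq]
    rfl
  have hz2 : PrimeSpectrum.comap (algebraMap R S) z.1 = P := z.2
  have h1 : FlatMor.localDim (PrimeSpectrum.comap (algebraMap R S) ⁻¹' {P}) z ≤ m := by
    have h2 := Groth.Agent.VarietyB.DimTop.localDim_eq_of_homeomorph e.symm ⟨Q, hQ⟩
    exact (le_of_eq h2.symm).trans h
  have h3 : ∀ (P' : PrimeSpectrum R) (hP' : PrimeSpectrum.comap (algebraMap R S) z.1 = P'),
      P = P' → FlatMor.localDim (PrimeSpectrum.comap (algebraMap R S) ⁻¹' {P'}) ⟨z.1, hP'⟩ ≤ m := by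
    rintro P' hP' rfl
    exact h1
  obtain ⟨g, hg, m', hm', φ, hφ⟩ := Groth.Agent.FlatA.FibreQF.exists_away_quasiFinite z.1 m
    (h3 _ rfl hz2.symm)
  refine ⟨g, by rwa [hz] at hg, fun p' _ => ?_⟩
  exact (Groth.Agent.FlatA.FibreQF.ringKrullDim_fiber_le R (Localization.Away g) φ hφ p').trans
    (by exact_mod_cast hm')

theorem localDim_le_ringKrullDim (A : Type u) [CommRing A] (Q : PrimeSpectrum A) :
    FlatMor.localDim (PrimeSpectrum A) Q ≤ ringKrullDim A := by
  rw [← PrimeSpectrum.topologicalKrullDim_eq_ringKrullDim]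
  exact Groth.Agent.VarietyB.DimTop.localDim_le_dim _

end Fib

end K562.Rel
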