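import Groth.Prelude.Def_CAlg
import Groth.Prelude.Def_RegImm
import Groth.Agent.Models.CMSeq
import Groth.Agent.Ega4B.DepthBasic
import Groth.Agent.Sga3C.QSliceAlg

/-!
# Quotients of regular local rings by regular sequences are Cohen–Macaulay
-/

set_option autoImplicit false

namespace K562.CM

open RingTheory.Sequence IsLocalRing

universe u

theorem cm_quotient_ofList {B : Type u} [CommRing B] [hB : LocCoh.IsCohenMacaulayLocalRing B]
    (rs : List B) (hreg : IsRegular B rs) [IsLocalRing (B ⧸ Ideal.ofList rs)] :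
    LocCoh.IsCohenMacaulayLocalRing (B ⧸ Ideal.ofList rs) := by
  have hm : ∀ r ∈ rs, r ∈ maximalIdeal B := by
    intro r hr
    have h1 : Ideal.ofList rs ≤ maximalIdeal B := by
      apply IsLocalRing.le_maximalIdeal
      intro h
      apply hreg.2
      rw [h]
      simp
    exact h1 (Ideal.subset_span hr)
  have h1 := Groth.Agent.Ega4B.DepthBasic.depth_quot_ofList_add_length rs hm B hreg.toIsWeaklyRegular
  have h2 : Module.supportDim B B = LocCoh.depth B B := hB.supportDim_eq_depth
  have h3 := ringKrullDim_add_length_eq_ringKrullDim_of_isRegular rs hreg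
  have eq : Ideal.ofList rs • (⊤ : Ideal B) = Ideal.ofList rs := by simp
  rw [eq] at h1
  refine { supportDim_eq_depth := ?_ }
  rw [Module.supportDim_self_eq_ringKrullDim] at h2 ⊢
  rw [← Groth.Agent.Sga3C.QSliceAlg.depth_of_surjective (R := B) (S := B ⧸ Ideal.ofList rs)
    Ideal.Quotient.mk_surjective]
  rw [h2, ← h1] at h3
  obtain ⟨d, hd⟩ : ∃ d : ℕ∞, ringKrullDim (B ⧸ Ideal.ofList rs) = d :=
    WithBot.ne_bot_iff_exists.mp ringKrullDim_ne_bot |>.imp fun _ h => h.symm
  rw [hd] at h3 ⊢
  have h4 : d + (rs.length : ℕ∞) = LocCoh.depth B (B ⧸ Ideal.ofList rs) + (rs.length : ℕ∞) := by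
    exact_mod_cast h3
  have h5 := (ENat.add_left_injective_of_ne_top (ENat.natCast_ne_top rs.length)) h4
  rw [h5]

/-- A regular local ring is Cohen–Macaulay. -/
theorem cm_of_regular (B : Type u) [CommRing B] [IsRegularLocalRing B] : LocCoh.IsCohenMacaulayLocalRing B where
  supportDim_eq_depth := Groth.Agent.Models.CMSeq.isCohenMacaulayModule_self

end K562.CM
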