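import Groth.Agent.Synt.K562.FieldCI2
import Groth.Agent.Ega4dB.CITransport
import Mathlib.RingTheory.EssentialFiniteness
import Mathlib.RingTheory.Localization.LocalizationLocalization

/-!
# Complete intersections over a field: the main equivalences

* `exists_isGlobalCI_away`: `S_q` complete intersection ⇒ some `S_g`, `g ∉ q`, is a global complete intersection;
* `isCIOver_iff`: `Synt.IsCIOver k S ↔ Pi1.IsCompleteIntersection S` for `S` local, essentially of finite type;
* `isLCIOver_iff`: `Synt.IsLCIOver k S` iff `S` is of finite type with all local rings complete intersections.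
-/

set_option autoImplicit false

namespace K562.FieldCI

open RingTheory.Sequence IsLocalRing Groth.Agent.VarietyB.DimRing K562.FieldDim

universe u

section Transport

theorem isGlobalCI_of_algEquiv (k : Type u) [Field k] {S T : Type u} [CommRing S] [CommRing T] [Algebra k S]
    [Algebra k T] (e : S ≃ₐ[k] T) (h : Synt.IsGlobalCI k S) : Synt.IsGlobalCI k T := by
  rcases h with h | ⟨n, c, hcn, φ, r, hφ, hker, hdim⟩
  · exact Or.inl e.symm.injective.subsingleton
  · refine Or.inr ⟨n, c, hcn, e.toAlgHom.comp φ, r, e.surjective.comp hφ, ?_, ?_⟩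
    · rw [← hker]
      ext x
      simp only [RingHom.mem_ker]
      change e (φ x) = 0 ↔ φ x = 0
      rw [EmbeddingLike.map_eq_zero_iff]
    · rw [← hdim, ringKrullDim_eq_of_ringEquiv e.toRingEquiv]

theorem isCI_atPrime_congr {A : Type u} [CommRing A] {p p' : Ideal A} [p.IsPrime] [p'.IsPrime] (h : p = p') :
    Pi1.IsCompleteIntersection (Localization.AtPrime p) ↔ Pi1.IsCompleteIntersection (Localization.AtPrime p') := by
  subst h
  rfl

/-- Complete intersection local rings of a localization. -/
theorem isCI_atPrime_comap_iff {A B : Type u} [CommRing A] [CommRing B] [Algebra A B] (M : Submonoid A)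
    [IsLocalization M B] (P : Ideal B) [P.IsPrime] (p : Ideal A) [p.IsPrime] (hp : p = P.comap (algebraMap A B)) :
    Pi1.IsCompleteIntersection (Localization.AtPrime P) ↔ Pi1.IsCompleteIntersection (Localization.AtPrime p) := by
  subst hp
  have : IsLocalization.AtPrime (Localization.AtPrime P) (P.comap (algebraMap A B)) :=
    IsLocalization.isLocalization_isLocalization_atPrime_isLocalization M (Localization.AtPrime P) P
  exact Groth.Agent.Ega4dB.CITransport.isCompleteIntersection_iff_of_ringEquiv
    (IsLocalization.algEquiv (P.comap (algebraMap A B)).primeCompl (Localization.AtPrime P)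
      (Localization.AtPrime (P.comap (algebraMap A B)))).toRingEquiv

theorem isCI_atPrime_iff_of_ringEquiv {A B : Type u} [CommRing A] [CommRing B] (e : A ≃+* B)
    (P : Ideal B) [P.IsPrime] (p : Ideal A) [p.IsPrime] (hp : p = P.comap e) :
    Pi1.IsCompleteIntersection (Localization.AtPrime P) ↔ Pi1.IsCompleteIntersection (Localization.AtPrime p) := by
  refine (Groth.Agent.Ega4dB.CITransport.isCompleteIntersection_iff_of_ringEquiv
    (Localization.localRingEquiv p P e hp)).symm

end Transport

section Main

variable (k : Type u) [Field k]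

/-- If `S_q` is a complete intersection, a neighbourhood of `q` is a global complete intersection. -/
theorem exists_isGlobalCI_away {S : Type u} [CommRing S] [Algebra k S] [Algebra.FiniteType k S]
    (q : Ideal S) [q.IsPrime] (h : Pi1.IsCompleteIntersection (Localization.AtPrime q)) :
    ∃ g : S, g ∉ q ∧ Synt.IsGlobalCI k (Localization.Away g) := by
  obtain ⟨n, φ, hφ⟩ := Algebra.FiniteType.iff_quotient_mvPolynomial''.mp (inferInstance : Algebra.FiniteType k S)
  let Q : Ideal (MvPolynomial (Fin n) k) := q.comap φ.toRingHom
  let I : Ideal (MvPolynomial (Fin n) k) := RingHom.ker φ.toRingHom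
  have hIQ : I ≤ Q := Ideal.comap_mono bot_le
  rw [Groth.Agent.S2842.isCompleteIntersection_iff_of_surjective
    (Localization.localRingHom Q q φ.toRingHom rfl) (localRingHom_surjective _ _ _ rfl hφ)] at h
  obtain ⟨rs, hreg, hrs⟩ := h
  rw [ker_localRingHom _ _ _ rfl hφ] at hrs
  obtain ⟨h, hhQ, hh⟩ := exists_isGlobalCI_away_of_isRegular k I Q hIQ rs hreg hrs
  refine ⟨φ h, hhQ, isGlobalCI_of_algEquiv k ?_ hh⟩
  let e₀ : (MvPolynomial (Fin n) k ⧸ I) ≃ₐ[k] S := Ideal.quotientKerAlgEquivOfSurjective (f := φ) hφ
  exact
    { IsLocalization.ringEquivOfRingEquiv (M := Submonoid.powers (Ideal.Quotient.mk I h))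
        (T := Submonoid.powers (φ h)) (Localization.Away (Ideal.Quotient.mk I h))
        (Localization.Away (φ h)) e₀.toRingEquiv (by
          rw [Submonoid.map_powers]
          rfl) with
      commutes' := fun x => by
        change IsLocalization.ringEquivOfRingEquiv _ _ _ _ (algebraMap k _ x) = _
        rw [IsScalarTower.algebraMap_apply k (MvPolynomial (Fin n) k ⧸ I) (Localization.Away _),
          IsLocalization.ringEquivOfRingEquiv_eq, IsScalarTower.algebraMap_apply k S (Localization.Away (φ h))]
        congr 1
        exact e₀.commutes x }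

/-- A local algebra essentially of finite type over a field is a quotient of the local ring of affine space at
a prime. -/
theorem exists_surjective_of_essFiniteType (S : Type u) [CommRing S] [IsLocalRing S] [Algebra k S]
    [Algebra.EssFiniteType k S] : ∃ (n : ℕ) (Q : Ideal (MvPolynomial (Fin n) k)) (_ : Q.IsPrime)
      (π : Localization.AtPrime Q →ₐ[k] S), Function.Surjective π := by
  obtain ⟨n, φ, hφ⟩ := Algebra.FiniteType.iff_quotient_mvPolynomial''.mp
    (inferInstance : Algebra.FiniteType k (Algebra.EssFiniteType.subalgebra k S))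
  let ψ : MvPolynomial (Fin n) k →ₐ[k] S := (Algebra.EssFiniteType.subalgebra k S).val.comp φ
  let Q : Ideal (MvPolynomial (Fin n) k) := (maximalIdeal S).comap ψ.toRingHom
  have hQ : Q.IsPrime := inferInstance
  have hunit : ∀ y : Q.primeCompl, IsUnit (ψ y) := fun y => by
    by_contra h
    exact y.2 ((mem_maximalIdeal _).mpr h)
  refine ⟨n, Q, hQ, IsLocalization.liftAlgHom (M := Q.primeCompl) (f := ψ) hunit, ?_⟩
  intro s
  obtain ⟨⟨x, t⟩, hx⟩ := IsLocalization.surj (Algebra.EssFiniteType.submonoid k S) s
  obtain ⟨a, ha⟩ := hφ x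
  obtain ⟨b, hb⟩ := hφ t.1
  have hbu : IsUnit (ψ b) := by
    have : ψ b = algebraMap _ S (t : Algebra.EssFiniteType.subalgebra k S) := by
      rw [← hb]
      rfl
    rw [this]
    exact IsLocalization.map_units S t
  have hbQ : b ∉ Q := fun h => (mem_maximalIdeal _).mp h hbu
  have hsb : s * ψ b = ψ a := by
    have h1 : ψ b = algebraMap _ S (t : Algebra.EssFiniteType.subalgebra k S) := by
      rw [← hb]
      rfl
    have h2 : ψ a = algebraMap _ S (x : Algebra.EssFiniteType.subalgebra k S) := by
      rw [← ha]
      rfl
    rw [h1, h2]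
    exact hx
  refine ⟨IsLocalization.mk' _ a (⟨b, hbQ⟩ : Q.primeCompl), ?_⟩
  apply hbu.mul_right_cancel
  rw [hsb]
  have h3 : IsLocalization.liftAlgHom (M := Q.primeCompl) (f := ψ) hunit
      (IsLocalization.mk' (Localization.AtPrime Q) a (⟨b, hbQ⟩ : Q.primeCompl)) *
      IsLocalization.liftAlgHom (M := Q.primeCompl) (f := ψ) hunit (algebraMap _ (Localization.AtPrime Q) b) =
      IsLocalization.liftAlgHom (M := Q.primeCompl) (f := ψ) hunit (algebraMap _ (Localization.AtPrime Q) a) := by
    rw [← map_mul]
    congr 1
    exact IsLocalization.mk'_spec _ a (⟨b, hbQ⟩ : Q.primeCompl)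
  have h4 : ∀ z, IsLocalization.liftAlgHom (M := Q.primeCompl) (f := ψ) hunit
      (algebraMap _ (Localization.AtPrime Q) z) = ψ z := fun z => by simp
  rwa [h4, h4] at h3

/-- For a local algebra essentially of finite type over a field, being a complete intersection over the
field is the absolute notion. -/
theorem isCIOver_iff (S : Type u) [CommRing S] [IsLocalRing S] [Algebra k S] [Algebra.EssFiniteType k S] :
    Synt.IsCIOver k S ↔ Pi1.IsCompleteIntersection S := by
  constructor
  · rintro ⟨R, _, _, _, -, rs, -, hreg, ⟨e⟩⟩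
    rw [Groth.Agent.S2842.isCompleteIntersection_iff_of_surjective
      (e.symm.toRingHom.comp (Ideal.Quotient.mk (Ideal.ofList rs)))
      (e.symm.surjective.comp Ideal.Quotient.mk_surjective)]
    refine ⟨rs, hreg, ?_⟩
    ext x
    simp only [RingHom.mem_ker]
    change _ ↔ e.symm (Ideal.Quotient.mk _ x) = 0
    rw [EmbeddingLike.map_eq_zero_iff, Ideal.Quotient.eq_zero_iff_mem]
  · intro h
    obtain ⟨n, Q, hQ, π, hπ⟩ := exists_surjective_of_essFiniteType k S
    rw [Groth.Agent.S2842.isCompleteIntersection_iff_of_surjective π.toRingHom hπ] at h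
    obtain ⟨rs, hreg, hrs⟩ := h
    refine ⟨Localization.AtPrime Q, inferInstance, inferInstance, inferInstance, inferInstance, rs, ?_, hreg, ?_⟩
    · intro r hr
      have h1 : r ∈ RingHom.ker π.toRingHom := by
        rw [← hrs]
        exact Ideal.subset_span hr
      exact le_maximalIdeal (RingHom.ker_ne_top _) h1
    · exact ⟨((Ideal.quotientEquivAlgOfEq k hrs).trans (Ideal.quotientKerAlgEquivOfSurjective (f := π) hπ)).symm⟩

/-- A finite type algebra over a field is a local complete intersection iff all its local rings are complete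
intersections. -/
theorem isLCIOver_iff (S : Type u) [CommRing S] [Algebra k S] :
    Synt.IsLCIOver k S ↔ Algebra.FiniteType k S ∧
      ∀ (q : Ideal S) [q.IsPrime], Pi1.IsCompleteIntersection (Localization.AtPrime q) := by
  constructor
  · rintro ⟨hft, h⟩
    refine ⟨hft, fun q hq => ?_⟩
    obtain ⟨g, hg, hgci⟩ := h ⟨q, hq⟩
    have disj : Disjoint (Submonoid.powers g : Set S) q := by
      rw [Set.disjoint_left]
      rintro _ ⟨m, rfl⟩ hm
      exact hg (hq.mem_of_pow_mem m hm)
    have hprime : (q.map (algebraMap S (Localization.Away g))).IsPrime :=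
      IsLocalization.isPrime_of_isPrime_disjoint (Submonoid.powers g) _ _ hq disj
    have h1 := isCI_atPrime_of_isGlobalCI k hgci (q.map (algebraMap S (Localization.Away g)))
    rwa [isCI_atPrime_comap_iff (Submonoid.powers g) (q.map (algebraMap S (Localization.Away g))) q
      (IsLocalization.under_map_of_isPrime_disjoint (Submonoid.powers g) (Localization.Away g) hq disj).symm] at h1
  · rintro ⟨hft, h⟩
    refine ⟨hft, fun p => ?_⟩
    exact exists_isGlobalCI_away k p.asIdeal (h p.asIdeal)

end Main

end K562.FieldCI
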