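import Groth.Agent.Synt.K562.Rel4

/-!
# Descent of relative global complete intersections to finite type rings
-/

set_option autoImplicit false

namespace K562.Rel

open MvPolynomial TensorProduct K562.FieldCI

universe u

variable {R : Type u} [CommRing R] {n : ℕ}

theorem exists_map_eq (R₀ : Subalgebra ℤ R) (p : MvPolynomial (Fin n) R) (hp : (p.coeffs : Set R) ⊆ R₀) :
    ∃ p₀ : MvPolynomial (Fin n) R₀, MvPolynomial.map (algebraMap R₀ R) p₀ = p := by
  have : p ∈ Set.range (MvPolynomial.map (algebraMap R₀ R)) := by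
    rw [mem_range_map_iff_coeffs_subset]
    intro x hx
    exact ⟨⟨x, hp hx⟩, rfl⟩
  exact this

/-- A unit ideal generated by an ideal of `R₀[x]` in `R[x]` is already a unit ideal over a larger finitely
generated subring. -/
theorem exists_finset_map_eq_top (R₀ : Subalgebra ℤ R) (J : Ideal (MvPolynomial (Fin n) R₀))
    (h : J.map (MvPolynomial.map (algebraMap R₀ R)) = ⊤) :
    ∃ t : Finset R, ∀ (R₁ : Subalgebra ℤ R) (h01 : R₀ ≤ R₁), (t : Set R) ⊆ R₁ →
      J.map (MvPolynomial.map (Subalgebra.inclusion h01).toRingHom) = ⊤ := by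
  classical
  have h1 : (1 : MvPolynomial (Fin n) R) ∈ Ideal.span (MvPolynomial.map (algebraMap R₀ R) '' (J : Set _)) := by
    have : (1 : MvPolynomial (Fin n) R) ∈ J.map (MvPolynomial.map (algebraMap R₀ R)) := h ▸ Submodule.mem_top
    exact this
  obtain ⟨N, b, g, hbg⟩ := Submodule.mem_span_set'.mp h1
  choose j hj hjg using fun k => (g k).2
  refine ⟨Finset.univ.biUnion fun k => (b k).coeffs, fun R₁ h01 ht => ?_⟩
  have h2 : ∀ k, ∃ b₁ : MvPolynomial (Fin n) R₁, MvPolynomial.map (algebraMap R₁ R) b₁ = b k := fun k =>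
    exists_map_eq R₁ (b k) fun x hx => ht (by
      rw [Finset.mem_coe, Finset.mem_biUnion]
      exact ⟨k, Finset.mem_univ k, hx⟩)
  choose b₁ hb₁ using h2
  rw [Ideal.eq_top_iff_one]
  have h3 : (1 : MvPolynomial (Fin n) R₁) = ∑ k, b₁ k * MvPolynomial.map (Subalgebra.inclusion h01).toRingHom (j k) := by
    apply MvPolynomial.map_injective (algebraMap R₁ R) Subtype.val_injective
    rw [map_one, map_sum, ← hbg]
    refine Finset.sum_congr rfl fun k _ => ?_
    rw [map_mul, hb₁, smul_eq_mul, ← hjg k, MvPolynomial.map_map]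
    rfl
  rw [h3]
  exact Ideal.sum_mem _ fun k _ => Ideal.mul_mem_left _ _ (Ideal.mem_map_of_mem _ (hj k))

section BC

variable {R₀ : Type u} [CommRing R₀] {c : ℕ} (F₀ : Fin c → MvPolynomial (Fin n) R₀) (R' : Type u) [CommRing R']
  [Algebra R₀ R']

theorem comap_mk_map_eq_top_iff (I : Ideal (Synt.RelGCIRing R₀ n c F₀)) :
    (I.comap (Ideal.Quotient.mk (Ideal.span (Set.range F₀)))).map (MvPolynomial.map (algebraMap R₀ R')) = ⊤ ↔
      I.map (Algebra.TensorProduct.includeRight : Synt.RelGCIRing R₀ n c F₀ →ₐ[R₀] R' ⊗[R₀] _).toRingHom = ⊤ := by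
  set J := I.comap (Ideal.Quotient.mk (Ideal.span (Set.range F₀))) with hJ
  have hI : I = J.map (Ideal.Quotient.mk (Ideal.span (Set.range F₀))) :=
    (Ideal.map_comap_of_surjective _ Ideal.Quotient.mk_surjective I).symm
  let E := baseChangeEquiv F₀ R'
  let E' : R' ⊗[R₀] Synt.RelGCIRing R₀ n c F₀ →+* Synt.RelGCIRing R' n c (mapRel F₀ R') := E.toRingEquiv.toRingHom
  let E'' : Synt.RelGCIRing R' n c (mapRel F₀ R') →+* R' ⊗[R₀] Synt.RelGCIRing R₀ n c F₀ := E.symm.toRingEquiv.toRingHom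
  have hcomp : E'.comp (((Algebra.TensorProduct.includeRight :
      Synt.RelGCIRing R₀ n c F₀ →ₐ[R₀] R' ⊗[R₀] _).toRingHom).comp (Ideal.Quotient.mk (Ideal.span (Set.range F₀)))) =
      (Ideal.Quotient.mk (Ideal.span (Set.range (mapRel F₀ R')))).comp (MvPolynomial.map (algebraMap R₀ R')) := by
    refine RingHom.ext fun x => ?_
    exact baseChangeEquiv_tmul F₀ R' x
  have h1 : I.map (Algebra.TensorProduct.includeRight : Synt.RelGCIRing R₀ n c F₀ →ₐ[R₀] R' ⊗[R₀] _).toRingHom = ⊤ ↔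
      (I.map (Algebra.TensorProduct.includeRight : Synt.RelGCIRing R₀ n c F₀ →ₐ[R₀] R' ⊗[R₀] _).toRingHom).map
        E' = ⊤ := by
    constructor
    · intro h
      rw [h, Ideal.map_top]
    · intro h
      have h2 := congrArg (Ideal.map E'') h
      rw [Ideal.map_top, Ideal.map_map] at h2
      have h3 : E''.comp E' = RingHom.id (R' ⊗[R₀] Synt.RelGCIRing R₀ n c F₀) :=
        RingHom.ext fun x => E.symm_apply_apply x
      rw [h3, Ideal.map_id] at h2
      exact h2
  rw [h1, hI, Ideal.map_map, Ideal.map_map, RingHom.comp_assoc, hcomp, ← Ideal.map_map]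
  constructor
  · intro h
    rw [h, Ideal.map_top]
  · intro h
    have h2 := congrArg (Ideal.comap (Ideal.Quotient.mk (Ideal.span (Set.range (mapRel F₀ R'))))) h
    rw [Ideal.comap_top, Ideal.comap_map_of_surjective _ Ideal.Quotient.mk_surjective, ← RingHom.ker_eq_comap_bot,
      Ideal.mk_ker, sup_eq_left.mpr] at h2
    · exact h2
    · rw [Ideal.span_le]
      rintro _ ⟨i, rfl⟩
      refine Ideal.mem_map_of_mem _ ?_
      rw [hJ, Ideal.mem_comap, Ideal.Quotient.eq_zero_iff_mem.mpr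
        (Ideal.subset_span (Set.mem_range_self i) : F₀ i ∈ Ideal.span (Set.range F₀))]
      exact zero_mem _

end BC

variable {c : ℕ} (F : Fin c → MvPolynomial (Fin n) R)

theorem FibLE.isRelGCI (hcn : c ≤ n) (h : FibLE R (Synt.RelGCIRing R n c F) (n - c)) : Synt.IsRelGCI R n c F :=
  isRelGCI_of_le F fun p _ _ => ⟨hcn, h p⟩

theorem fibLE_of_isRelGCI (h : Synt.IsRelGCI R n c F) : FibLE R (Synt.RelGCIRing R n c F) (n - c) := by
  intro p hp
  rcases subsingleton_or_nontrivial (p.Fiber (Synt.RelGCIRing R n c F)) with hs | hs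
  · rw [ringKrullDim_eq_bot_of_subsingleton]
    exact bot_le
  · exact (h ⟨p, hp⟩ hs).2.le

theorem isRelGCI_of_subsingleton (h : Subsingleton (Synt.RelGCIRing R n c F)) : Synt.IsRelGCI R n c F := by
  intro p hp
  exfalso
  have : Subsingleton (p.asIdeal.Fiber (Synt.RelGCIRing R n c F)) := by
    refine subsingleton_of_zero_eq_one ?_
    have : (1 : p.asIdeal.Fiber (Synt.RelGCIRing R n c F)) = (1 : p.asIdeal.ResidueField) ⊗ₜ[R] (1 : Synt.RelGCIRing R n c F) := rfl
    rw [this, Subsingleton.elim (1 : Synt.RelGCIRing R n c F) 0, tmul_zero]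
  exact not_nontrivial _ hp

/-- If `c > n` a relative global complete intersection is the zero ring. -/
theorem subsingleton_of_isRelGCI (h : Synt.IsRelGCI R n c F) (hcn : ¬ c ≤ n) : Subsingleton (Synt.RelGCIRing R n c F) := by
  by_contra hns
  rw [not_subsingleton_iff_nontrivial] at hns
  obtain ⟨q, hq⟩ := Ideal.exists_maximal (Synt.RelGCIRing R n c F)
  let P : PrimeSpectrum R := ⟨q.comap (algebraMap R _), inferInstance⟩
  have z := PrimeSpectrum.preimageEquivFiber R (Synt.RelGCIRing R n c F) P ⟨⟨q, hq.isPrime⟩, rfl⟩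
  have : Nontrivial (P.asIdeal.Fiber (Synt.RelGCIRing R n c F)) := by
    by_contra hn
    rw [not_nontrivial_iff_subsingleton] at hn
    exact z.2.ne_top (Subsingleton.elim _ _)
  exact hcn (h P this).1

/-- A relative global complete intersection descends to a finitely generated subring. -/
theorem exists_isRelGCI_subalgebra (h : Synt.IsRelGCI R n c F) :
    ∃ (R₀ : Subalgebra ℤ R) (F₀ : Fin c → MvPolynomial (Fin n) R₀), Algebra.FiniteType ℤ R₀ ∧
      (∀ i, MvPolynomial.map (algebraMap R₀ R) (F₀ i) = F i) ∧ Synt.IsRelGCI R₀ n c F₀ := by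
  classical
  let s₀ : Finset R := Finset.univ.biUnion fun i => (F i).coeffs
  let R₀ := Algebra.adjoin ℤ (s₀ : Set R)
  have h0 : ∀ i, ∃ p₀ : MvPolynomial (Fin n) R₀, MvPolynomial.map (algebraMap R₀ R) p₀ = F i := fun i =>
    exists_map_eq R₀ (F i) fun x hx => Algebra.subset_adjoin (by
      rw [Finset.mem_coe, Finset.mem_biUnion]
      exact ⟨i, Finset.mem_univ i, hx⟩)
  choose F₀ hF₀ using h0
  have hF : mapRel F₀ R = F := funext hF₀
  have key : ∀ (J : Ideal (MvPolynomial (Fin n) R₀)), J.map (MvPolynomial.map (algebraMap R₀ R)) = ⊤ →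
      ∃ (R₁ : Subalgebra ℤ R) (h01 : R₀ ≤ R₁), Algebra.FiniteType ℤ R₁ ∧
        J.map (MvPolynomial.map (Subalgebra.inclusion h01).toRingHom) = ⊤ := by
    intro J hJ
    obtain ⟨t, ht⟩ := exists_finset_map_eq_top R₀ J hJ
    have h01 : R₀ ≤ Algebra.adjoin ℤ ((s₀ ∪ t : Finset R) : Set R) :=
      Algebra.adjoin_mono (by rw [Finset.coe_union]; exact Set.subset_union_left)
    refine ⟨_, h01, ?_, ht _ h01 ?_⟩
    · rw [← Subalgebra.fg_iff_finiteType]
      exact ⟨_, rfl⟩
    · refine Set.Subset.trans ?_ Algebra.subset_adjoin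
      rw [Finset.coe_union]
      exact Set.subset_union_right
  by_cases hcn : c ≤ n
  · have h1 : FibLE R (R ⊗[R₀] Synt.RelGCIRing R₀ n c F₀) (n - c) := by
      refine FibLE.of_algEquiv ?_ (baseChangeEquiv F₀ R).symm
      rw [hF]
      exact fibLE_of_isRelGCI F h
    have hft : Algebra.FiniteType R₀ (Synt.RelGCIRing R₀ n c F₀) := inferInstance
    have h2 := smallIdeal_map_eq_top R (n - c) h1
    rw [← comap_mk_map_eq_top_iff] at h2
    obtain ⟨R₁, h01, hR₁, h3⟩ := key _ h2
    let _ : Algebra R₀ R₁ := (Subalgebra.inclusion h01).toRingHom.toAlgebra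
    have h4 := (comap_mk_map_eq_top_iff F₀ R₁ _).mp h3
    have h5 := fibLE_of_smallIdeal_map_eq_top R₁ (n - c) h4
    have h6 := h5.of_algEquiv (baseChangeEquiv F₀ R₁)
    refine ⟨R₁, mapRel F₀ R₁, hR₁, fun i => ?_, h6.isRelGCI _ hcn⟩
    rw [← hF₀ i, mapRel, MvPolynomial.map_map]
    rfl
  · have h1 := subsingleton_of_isRelGCI F h hcn
    have h2 : (Ideal.span (Set.range F₀)).map (MvPolynomial.map (algebraMap R₀ R)) = ⊤ := by
      rw [Ideal.map_span, ← Set.range_comp]
      have h3 := Ideal.Quotient.subsingleton_iff.mp h1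
      rw [← h3]
      congr 2
    obtain ⟨R₁, h01, hR₁, h3⟩ := key _ h2
    let _ : Algebra R₀ R₁ := (Subalgebra.inclusion h01).toRingHom.toAlgebra
    refine ⟨R₁, mapRel F₀ R₁, hR₁, fun i => ?_, isRelGCI_of_subsingleton _ ?_⟩
    · rw [← hF₀ i, mapRel, MvPolynomial.map_map]
      rfl
    · refine Ideal.Quotient.subsingleton_iff.mpr ?_
      rw [← h3, Ideal.map_span, ← Set.range_comp]
      congr 2

end K562.Rel
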