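import Groth.Prelude.Def_RegImm
import Groth.Agent.Models.CMSeq
import Groth.Agent.VarietyB.DimRing
import Mathlib.RingTheory.RegularLocalRing.Polynomial
import Mathlib.RingTheory.Localization.Ideal

/-!
# Complete intersections over a field: dimension theory

Relations cutting the dimension of affine space down maximally form a regular sequence in all local rings
of affine space at primes containing them.
-/

set_option autoImplicit false

namespace K562.FieldDim

open RingTheory.Sequence IsLocalRing Groth.Agent.VarietyB.DimRing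

universe u

section

variable (k : Type u) [Field k]

/-- The dimension formula in a polynomial ring over a field. -/
theorem height_add_dim_mv {n : ℕ} (Q : Ideal (MvPolynomial (Fin n) k)) [Q.IsPrime] :
    (Q.height : WithBot ℕ∞) + ringKrullDim (MvPolynomial (Fin n) k ⧸ Q) = (n : ℕ) := by
  rw [Groth.Agent.Ega4B.DimFT2.height_add_dim k _ Q, MvPolynomial.ringKrullDim_of_isNoetherianRing,
    ringKrullDim_eq_zero_of_field, Nat.card_fin, zero_add]

/-- Natural number form of the dimension formula. -/
theorem exists_nat_mv {n : ℕ} (Q : Ideal (MvPolynomial (Fin n) k)) [Q.IsPrime] :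
    ∃ h d : ℕ, Q.height = h ∧ ringKrullDim (MvPolynomial (Fin n) k ⧸ Q) = d ∧ h + d = n := by
  obtain ⟨d, -, hd⟩ := Groth.Agent.Ega4B.DimFT.exists_dim k (MvPolynomial (Fin n) k ⧸ Q)
  have h := height_add_dim_mv k Q
  obtain ⟨h', hh'⟩ : ∃ h' : ℕ, Q.height = h' := by
    have : Q.height ≠ ⊤ := Ideal.height_ne_top (Ideal.IsPrime.ne_top ‹_›)
    exact ⟨Q.height.toNat, (ENat.natCast_toNat this).symm⟩
  refine ⟨h', d, hh', hd, ?_⟩
  rw [hh', hd] at h
  exact_mod_cast h

end

section

variable {A : Type u} [CommRing A]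

/-- `A_Q / J A_Q` is the localization of `A / J` at `Q / J`, as algebras over any base. -/
theorem nonempty_quotient_equiv (J : Ideal A) (p : Ideal (A ⧸ J)) [hp : p.IsPrime] (Q : Ideal A) [Q.IsPrime]
    (hQ : Q = p.comap (Ideal.Quotient.mk J)) :
    Nonempty (Localization.AtPrime p ≃ₐ[A ⧸ J] (Localization.AtPrime Q ⧸
      J.map (algebraMap A (Localization.AtPrime Q)))) := by
  subst hQ
  let q : Ideal A := p.comap (Ideal.Quotient.mk J)
  have h3 : Algebra.algebraMapSubmonoid (A ⧸ J) q.primeCompl = p.primeCompl := by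
    ext x
    obtain ⟨x, rfl⟩ := Ideal.Quotient.mk_surjective x
    constructor
    · rintro ⟨y, hy, hxy⟩
      intro hx
      have hxy' : Ideal.Quotient.mk J y = Ideal.Quotient.mk J x := hxy
      rw [← hxy'] at hx
      exact hy hx
    · intro hx
      exact ⟨x, hx, rfl⟩
  have h4 : IsLocalization.AtPrime (Localization.AtPrime q ⧸ J.map (algebraMap A (Localization.AtPrime q))) p := by
    have : IsLocalization (Algebra.algebraMapSubmonoid (A ⧸ J) q.primeCompl)
      (Localization.AtPrime q ⧸ J.map (algebraMap A (Localization.AtPrime q))) := inferInstance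
    rw [h3] at this
    exact this
  exact ⟨(IsLocalization.algEquiv p.primeCompl (Localization.AtPrime p)
    (Localization.AtPrime q ⧸ J.map (algebraMap A (Localization.AtPrime q))))⟩

/-- The dimension of `A_Q / J A_Q` is the height of `Q / J`. -/
theorem ringKrullDim_atPrime_quotient (J Q : Ideal A) [Q.IsPrime] (hJ : J ≤ Q) :
    ringKrullDim (Localization.AtPrime Q ⧸ J.map (algebraMap A (Localization.AtPrime Q))) =
      ((Q.map (Ideal.Quotient.mk J)).height : WithBot ℕ∞) := by
  have := isPrime_map_quotient hJ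
  obtain ⟨e⟩ := nonempty_quotient_equiv J (Q.map (Ideal.Quotient.mk J)) Q (comap_map_quotient hJ).symm
  rw [← ringKrullDim_eq_of_ringEquiv e.toRingEquiv,
    IsLocalization.AtPrime.ringKrullDim_eq_height (Q.map (Ideal.Quotient.mk J))]

end

section

variable (k : Type u) [Field k]

/-- If `S = k[x_1, …, x_n]/(r_1, …, r_c)` has dimension at most `n - c`, then at every prime containing the
relations they form a regular sequence in the local ring. -/
theorem isRegular_of_dim_le {n c : ℕ} (hcn : c ≤ n) (r : Fin c → MvPolynomial (Fin n) k)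
    (hdim : ringKrullDim (MvPolynomial (Fin n) k ⧸ Ideal.span (Set.range r)) ≤ ((n - c : ℕ) : WithBot ℕ∞))
    (Q : Ideal (MvPolynomial (Fin n) k)) [Q.IsPrime] (hQ : Ideal.span (Set.range r) ≤ Q) :
    IsRegular (Localization.AtPrime Q)
      ((List.ofFn r).map (algebraMap (MvPolynomial (Fin n) k) (Localization.AtPrime Q))) := by
  have hmap : Ideal.ofList ((List.ofFn r).map (algebraMap (MvPolynomial (Fin n) k) (Localization.AtPrime Q))) =
      (Ideal.span (Set.range r)).map (algebraMap _ (Localization.AtPrime Q)) := by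
    rw [Ideal.map_span, Ideal.ofList]
    congr 1
    ext x
    simp [List.mem_ofFn]
  refine Groth.Agent.Models.CMSeq.isRegular_of_ringKrullDim_le _ ?_ ?_
  · intro x hx
    obtain ⟨y, hy, rfl⟩ := List.mem_map.mp hx
    rw [← Localization.AtPrime.map_eq_maximalIdeal]
    refine Ideal.mem_map_of_mem _ (hQ (Ideal.subset_span ?_))
    simpa [List.mem_ofFn] using hy
  · rw [hmap, ringKrullDim_atPrime_quotient _ _ hQ, List.length_map, List.length_ofFn,
      IsLocalization.AtPrime.ringKrullDim_eq_height Q]
    set I := Ideal.span (Set.range r) with hI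
    have hP := isPrime_map_quotient hQ
    set P := Q.map (Ideal.Quotient.mk I) with hPdef
    obtain ⟨q, hq, hqP, hht⟩ := exists_minimalPrimes_height_eq P
    have : q.IsPrime := hq.1.1
    have h1 := height_quotient_add_dim k hqP
    have h2 : ringKrullDim ((MvPolynomial (Fin n) k ⧸ I) ⧸ q) ≤ ((n - c : ℕ) : WithBot ℕ∞) :=
      (ringKrullDim_quotient_le q).trans hdim
    rw [← h1, hht] at h2
    obtain ⟨h, d, hh, hd, hhd⟩ := exists_nat_mv k Q
    have h3 : ringKrullDim ((MvPolynomial (Fin n) k ⧸ I) ⧸ P) = d := by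
      rw [← hd]
      exact ringKrullDim_eq_of_ringEquiv (DoubleQuot.quotQuotEquivQuotOfLE hQ)
    rw [h3] at h2
    obtain ⟨h', hh'⟩ : ∃ h' : ℕ, P.height = h' := by
      have : P.height ≠ ⊤ := Ideal.height_ne_top (Ideal.IsPrime.ne_top ‹_›)
      exact ⟨P.height.toNat, (ENat.natCast_toNat this).symm⟩
    rw [hh'] at h2 ⊢
    rw [hh]
    have h4 : h' + d ≤ n - c := by
      rw [show ((h' : ℕ∞) : WithBot ℕ∞) = (h' : WithBot ℕ∞) from rfl, ← Nat.cast_add] at h2
      exact Nat.cast_le.mp h2
    have h5 : h' + c ≤ h := by omega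
    exact_mod_cast h5

end

end K562.FieldDim
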