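import Groth.Agent.Synt.K561.SynLci
import Groth.Agent.Flat2H.RegPerf

/-!
# Splitting a monic polynomial over a syntomic finite free algebra
-/

set_option autoImplicit false

namespace K562.Split

open Polynomial Groth.Agent.Flat2H.LCIMaps2 Groth.Agent.Flat2H.LCIMaps Groth.Agent.Flat2H.KoszulBC

universe u

theorem isSyntomic_self (A : Type u) [CommRing A] : Synt.IsSyntomic A A := by
  rw [K561.SynLci.isSyntomic_iff_isLCI]
  refine ⟨inferInstance, ?_⟩
  rw [K561.RegImmDict.isLCI_iff_kerK Function.surjective_id]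
  have h1 : RingHom.ker (algebraMap A A) = Ideal.ofList ([] : List A) := by
    rw [Ideal.ofList_nil]
    exact (RingHom.injective_iff_ker_eq_bot _).mp Function.injective_id
  rw [h1]
  exact Groth.Agent.Flat2H.RegPerf.isKoszulRegularIdeal_ofList
    (isKoszulRegularSeq_of_isWeaklyRegular (RingTheory.Sequence.IsWeaklyRegular.nil A A))

theorem isSyntomic_trans (A B C : Type u) [CommRing A] [CommRing B] [CommRing C] [Algebra A B] [Algebra B C]
    [Algebra A C] [IsScalarTower A B C] (h1 : Synt.IsSyntomic A B) (h2 : Synt.IsSyntomic B C) :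
    Synt.IsSyntomic A C := by
  rw [K561.SynLci.isSyntomic_iff_isLCI] at *
  obtain ⟨_, h1⟩ := h1
  obtain ⟨_, h2⟩ := h2
  exact ⟨Module.Flat.trans A B C, IsLCI.trans h1 h2⟩

theorem isSyntomic_adjoinRoot {A : Type u} [CommRing A] (P : A[X]) (hP : P.Monic) :
    Synt.IsSyntomic A (AdjoinRoot P) := by
  have := hP.free_adjoinRoot
  rw [K561.SynLci.isSyntomic_iff_isLCI]
  refine ⟨inferInstance, ?_⟩
  refine isLCI_of_kerK_of_equiv (MvPolynomial.uniqueAlgEquiv A (Fin 1)).symm (AdjoinRoot.mkₐ P)
    AdjoinRoot.mk_surjective ?_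
  have h1 : RingHom.ker (AdjoinRoot.mkₐ P : A[X] →ₐ[A] AdjoinRoot P).toRingHom = Ideal.ofList [P] := by
    rw [Ideal.ofList_singleton]
    exact Ideal.mk_ker
  unfold KerK
  rw [h1]
  refine Groth.Agent.Flat2H.RegPerf.isKoszulRegularIdeal_ofList (isKoszulRegularSeq_of_isWeaklyRegular ?_)
  rw [RingTheory.Sequence.isWeaklyRegular_cons_iff]
  refine ⟨?_, RingTheory.Sequence.IsWeaklyRegular.nil _ _⟩
  rw [isSMulRegular_iff_right_eq_zero_of_smul]
  intro x hx
  exact (hP.mul_right_eq_zero_iff).mp hx

theorem exists_split (N : ℕ) : ∀ (A : Type u) [CommRing A] [Nontrivial A] (P : A[X]) (_ : P.Monic) (_ : P.natDegree = N),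
    ∃ (A' : Type u) (_ : CommRing A') (_ : Algebra A A'),
      Synt.IsSyntomic A A' ∧ Module.Finite A A' ∧ Module.Free A A' ∧ Nontrivial A' ∧
        ∃ s : Multiset A', P.map (algebraMap A A') = (s.map fun b => X - C b).prod := by
  induction N using Nat.strong_induction_on with
  | _ N IH =>
    intro A _ _ p hp hn
    by_cases hpu : IsUnit p
    · obtain rfl := hp.eq_one_of_isUnit hpu
      exact ⟨A, inferInstance, inferInstance, isSyntomic_self A, inferInstance, inferInstance, inferInstance, 0, by simp⟩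
    obtain ⟨q, hq⟩ : X - C (AdjoinRoot.root p) ∣ p.map (algebraMap _ _) := by
      simp [dvd_iff_isRoot, -AdjoinRoot.algebraMap_eq]
    have hqm : q.Monic := .of_mul_monic_left (monic_X_sub_C (.root _)) (hq ▸ hp.map _)
    have := hp.free_adjoinRoot
    have := hp.finite_adjoinRoot
    have : Nontrivial (AdjoinRoot p) := Ideal.Quotient.nontrivial_iff.mpr (by simpa)
    obtain ⟨S, _, _, hsyn, _, _, _, s, hS⟩ := IH _
      (by rw [← hn, ← hp.natDegree_map (algebraMap A (AdjoinRoot p)), hq,
        Monic.natDegree_mul (monic_X_sub_C _) hqm]; simp) (AdjoinRoot p) q hqm rfl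
    algebraize [(algebraMap (AdjoinRoot p) S).comp (algebraMap A (AdjoinRoot p))]
    refine ⟨S, ‹_›, ‹_›, isSyntomic_trans A (AdjoinRoot p) S (isSyntomic_adjoinRoot p hp) hsyn,
      .trans (AdjoinRoot p) _, .trans (S := AdjoinRoot p), ‹_›, algebraMap (AdjoinRoot p) S (AdjoinRoot.root p) ::ₘ s, ?_⟩
    rw [IsScalarTower.algebraMap_eq A (AdjoinRoot p), ← Polynomial.map_map, hq, Polynomial.map_mul, hS,
      Multiset.map_cons, Multiset.prod_cons]
    simp

theorem exists_split' (A : Type u) [CommRing A] (P : A[X]) (hP : P.Monic) :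
    ∃ (A' : Type u) (_ : CommRing A') (_ : Algebra A A'),
      Synt.IsSyntomic A A' ∧ Module.Finite A A' ∧ Module.Free A A' ∧ Module.FaithfullyFlat A A' ∧
        ∃ s : Multiset A', P.map (algebraMap A A') = (s.map fun b => X - C b).prod := by
  rcases subsingleton_or_nontrivial A with hA | hA
  · exact ⟨A, inferInstance, inferInstance, isSyntomic_self A, inferInstance, inferInstance, inferInstance, 0,
      Subsingleton.elim _ _⟩
  · obtain ⟨A', _, _, h1, _, _, _, h2⟩ := exists_split P.natDegree A P hP rfl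
    exact ⟨A', inferInstance, inferInstance, h1, inferInstance, inferInstance, inferInstance, h2⟩

end K562.Split
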