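import Groth.Prelude.Def_RegImm
import Mathlib.RingTheory.Localization.Away.Basic
import Mathlib.RingTheory.Ideal.Quotient.Operations
import Mathlib.Algebra.MvPolynomial.Rename

/-!
# The presentation of a basic open of a finitely presented algebra

`(R[x_1, …, x_n]/(F_1, …, F_c))_h ≅ R[x_1, …, x_{n+1}]/(F_1, …, F_c, h x_{n+1} - 1)`.
-/

set_option autoImplicit false

namespace K562.LocPres

open MvPolynomial

universe u

variable {R : Type u} [CommRing R] {n c : ℕ}

/-- The relations of the localized presentation. -/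
noncomputable abbrev rel (F : Fin c → MvPolynomial (Fin n) R) (h : MvPolynomial (Fin n) R) :
    Fin (c + 1) → MvPolynomial (Fin (n + 1)) R :=
  Fin.snoc (fun i => rename Fin.castSucc (F i)) (rename Fin.castSucc h * X (Fin.last n) - 1)

variable (F : Fin c → MvPolynomial (Fin n) R) (h : MvPolynomial (Fin n) R)

theorem rel_castSucc (i : Fin c) : rel F h i.castSucc = rename Fin.castSucc (F i) := by
  simp [rel]

theorem rel_last : rel F h (Fin.last c) = rename Fin.castSucc h * X (Fin.last n) - 1 := by
  simp [rel]

/-- The class of `h`. -/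
noncomputable abbrev hbar : Synt.RelGCIRing R n c F := Ideal.Quotient.mk (Ideal.span (Set.range F)) h

/-- The map from the new polynomial ring to the localization. -/
noncomputable def toLoc : MvPolynomial (Fin (n + 1)) R →ₐ[R] Localization.Away (hbar F h) :=
  aeval (Fin.snoc (fun i => algebraMap (Synt.RelGCIRing R n c F) (Localization.Away (hbar F h))
    (Ideal.Quotient.mk _ (X i))) (IsLocalization.Away.invSelf (hbar F h)))

theorem toLoc_rename (p : MvPolynomial (Fin n) R) :
    toLoc F h (rename Fin.castSucc p) = algebraMap (Synt.RelGCIRing R n c F) _ (Ideal.Quotient.mk _ p) := by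
  rw [toLoc, aeval_rename]
  have : (Fin.snoc (fun i => algebraMap (Synt.RelGCIRing R n c F) (Localization.Away (hbar F h))
      (Ideal.Quotient.mk _ (X i))) (IsLocalization.Away.invSelf (hbar F h)) ∘ Fin.castSucc :
      Fin n → Localization.Away (hbar F h)) =
      fun i => algebraMap (Synt.RelGCIRing R n c F) (Localization.Away (hbar F h))
        (Ideal.Quotient.mk _ (X i)) := by
    ext i
    simp
  rw [this]
  let ψ : MvPolynomial (Fin n) R →ₐ[R] Localization.Away (hbar F h) :=
    (IsScalarTower.toAlgHom R (Synt.RelGCIRing R n c F) (Localization.Away (hbar F h))).comp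
      (Ideal.Quotient.mkₐ R (Ideal.span (Set.range F)))
  have h2 : aeval (fun i => algebraMap (Synt.RelGCIRing R n c F) (Localization.Away (hbar F h))
        (Ideal.Quotient.mk _ (X i))) = ψ := by
    apply MvPolynomial.algHom_ext
    intro i
    simp [ψ]
  rw [h2]
  rfl

theorem toLoc_X_last : toLoc F h (X (Fin.last n)) = IsLocalization.Away.invSelf (hbar F h) := by
  simp [toLoc]

theorem toLoc_rel (i : Fin (c + 1)) : toLoc F h (rel F h i) = 0 := by
  refine Fin.lastCases ?_ (fun i => ?_) i
  · rw [rel_last, map_sub, map_mul, toLoc_rename, toLoc_X_last, map_one,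
      IsLocalization.Away.mul_invSelf, sub_self]
  · rw [rel_castSucc, toLoc_rename]
    have : Ideal.Quotient.mk (Ideal.span (Set.range F)) (F i) = 0 :=
      Ideal.Quotient.eq_zero_iff_mem.mpr (Ideal.subset_span ⟨i, rfl⟩)
    rw [this, map_zero]

/-- The map from the presented algebra to the localization. -/
noncomputable def fwd : Synt.RelGCIRing R (n + 1) (c + 1) (rel F h) →ₐ[R] Localization.Away (hbar F h) :=
  Ideal.Quotient.liftₐ _ (toLoc F h) (fun a ha => by
    have : Ideal.span (Set.range (rel F h)) ≤ RingHom.ker (toLoc F h) := by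
      rw [Ideal.span_le]
      rintro _ ⟨i, rfl⟩
      exact toLoc_rel F h i
    exact this ha)

/-- The map `R[x]/(F) → R[x, y]/(F, h y - 1)`. -/
noncomputable def bwd₀ : Synt.RelGCIRing R n c F →ₐ[R] Synt.RelGCIRing R (n + 1) (c + 1) (rel F h) :=
  Ideal.Quotient.liftₐ _ ((Ideal.Quotient.mkₐ R _).comp (rename Fin.castSucc)) (fun a ha => by
    have : Ideal.span (Set.range F) ≤ RingHom.ker ((Ideal.Quotient.mkₐ R
        (Ideal.span (Set.range (rel F h)))).comp (rename Fin.castSucc)) := by
      rw [Ideal.span_le]
      rintro _ ⟨i, rfl⟩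
      change (Ideal.Quotient.mk _ (rename Fin.castSucc (F i)) :
        Synt.RelGCIRing R (n + 1) (c + 1) (rel F h)) = 0
      rw [Ideal.Quotient.eq_zero_iff_mem, ← rel_castSucc F h i]
      exact Ideal.subset_span ⟨_, rfl⟩
    exact this ha)

theorem bwd₀_mk (p : MvPolynomial (Fin n) R) :
    bwd₀ F h (Ideal.Quotient.mk _ p) = Ideal.Quotient.mk _ (rename Fin.castSucc p) := rfl

theorem mul_X_last : bwd₀ F h (hbar F h) * Ideal.Quotient.mk _ (X (Fin.last n)) = 1 := by
  rw [bwd₀_mk, ← map_mul, ← sub_eq_zero, ← map_one (Ideal.Quotient.mk _), ← map_sub,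
    Ideal.Quotient.eq_zero_iff_mem, ← rel_last F h]
  exact Ideal.subset_span ⟨_, rfl⟩

theorem isUnit_bwd₀ : IsUnit (bwd₀ F h (hbar F h)) :=
  IsUnit.of_mul_eq_one _ (mul_X_last F h)

/-- The map back. -/
noncomputable def bwd : Localization.Away (hbar F h) →ₐ[R] Synt.RelGCIRing R (n + 1) (c + 1) (rel F h) :=
  IsLocalization.liftAlgHom (M := Submonoid.powers (hbar F h)) (f := bwd₀ F h) (by
    rintro ⟨_, m, rfl⟩
    rw [map_pow]
    exact (isUnit_bwd₀ F h).pow m)

theorem bwd_algebraMap (x : Synt.RelGCIRing R n c F) :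
    bwd F h (algebraMap _ _ x) = bwd₀ F h x := by
  simp [bwd]

theorem bwd_invSelf : bwd F h (IsLocalization.Away.invSelf (hbar F h)) =
    Ideal.Quotient.mk _ (X (Fin.last n)) := by
  have h1 : bwd F h (algebraMap _ _ (hbar F h)) * bwd F h (IsLocalization.Away.invSelf (hbar F h)) = 1 := by
    rw [← map_mul, IsLocalization.Away.mul_invSelf, map_one]
  rw [bwd_algebraMap] at h1
  have h2 := mul_X_last F h
  exact (isUnit_bwd₀ F h).mul_left_cancel (h1.trans h2.symm)

/-- The localization of `R[x]/(F)` at `h` is presented by adding one variable and one relation. -/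
noncomputable def equiv : Localization.Away (hbar F h) ≃ₐ[R] Synt.RelGCIRing R (n + 1) (c + 1) (rel F h) :=
  AlgEquiv.ofAlgHom (bwd F h) (fwd F h)
    (by
      apply Ideal.Quotient.algHom_ext
      apply MvPolynomial.algHom_ext
      intro i
      refine Fin.lastCases ?_ (fun i => ?_) i
      · change bwd F h (toLoc F h (X (Fin.last n))) = Ideal.Quotient.mk _ (X (Fin.last n))
        rw [toLoc_X_last, bwd_invSelf]
      · change bwd F h (toLoc F h (X i.castSucc)) = Ideal.Quotient.mk _ (X i.castSucc)
        rw [← rename_X (R := R) Fin.castSucc i, toLoc_rename, bwd_algebraMap, bwd₀_mk])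
    (by
      apply IsLocalization.algHom_ext (Submonoid.powers (hbar F h))
      apply Ideal.Quotient.algHom_ext
      apply MvPolynomial.algHom_ext
      intro i
      change fwd F h (bwd F h (algebraMap (Synt.RelGCIRing R n c F) (Localization.Away (hbar F h))
        (Ideal.Quotient.mk (Ideal.span (Set.range F)) (X i)))) =
        algebraMap (Synt.RelGCIRing R n c F) (Localization.Away (hbar F h))
        (Ideal.Quotient.mk (Ideal.span (Set.range F)) (X i))
      rw [bwd_algebraMap, bwd₀_mk]
      change toLoc F h _ = _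
      rw [toLoc_rename])

theorem equiv_algebraMap (p : MvPolynomial (Fin n) R) :
    equiv F h (algebraMap (Synt.RelGCIRing R n c F) (Localization.Away (hbar F h))
      (Ideal.Quotient.mk (Ideal.span (Set.range F)) p)) =
      Ideal.Quotient.mk (Ideal.span (Set.range (rel F h))) (rename Fin.castSucc p) := by
  change bwd F h _ = _
  rw [bwd_algebraMap, bwd₀_mk]

end K562.LocPres
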