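import Groth.Agent.Synt.K562.RelDesc
import Groth.Agent.Synt.K562.LocPres

/-!
# Spreading out relative global complete intersections
-/

set_option autoImplicit false

namespace K562.Rel

open MvPolynomial TensorProduct K562.FieldCI

universe u

section Away

variable {R S : Type u} [CommRing R] [CommRing S] [Algebra R S]

/-- Iterated localization does not depend on the order. -/
noncomputable def awayComm (f g : S) :
    Localization.Away (algebraMap S (Localization.Away f) g) ≃ₐ[R]
      Localization.Away (algebraMap S (Localization.Away g) f) := by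
  have h1 : IsLocalization.Away (f * g) (Localization.Away (algebraMap S (Localization.Away f) g)) :=
    (mul_comm f g) ▸ IsLocalization.Away.mul (Localization.Away f) _ f g
  have h2 : IsLocalization.Away (f * g) (Localization.Away (algebraMap S (Localization.Away g) f)) :=
    IsLocalization.Away.mul (Localization.Away g) _ g f
  exact (IsLocalization.algEquiv (Submonoid.powers (f * g)) _ _).restrictScalars R

theorem FibLE.away {m : ℕ} (h : FibLE R S m) (g : S) : FibLE R (Localization.Away g) m := by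
  intro p _
  have h1 : ringKrullDim (p.Fiber (Localization.Away g)) =
      ringKrullDim (Localization.Away ((1 : p.ResidueField) ⊗ₜ[R] g : p.Fiber S)) :=
    ringKrullDim_eq_of_ringEquiv (fiberAway p g).toRingEquiv
  rw [h1]
  exact (ringKrullDim_localization_le (Submonoid.powers ((1 : p.ResidueField) ⊗ₜ[R] g : p.Fiber S))).trans (h p)

theorem fibLE_away_of_mem_smallIdeal {m : ℕ} {j : S} (hj : j ∈ smallIdeal R S m) :
    FibLE R (Localization.Away j) m := by
  refine FibLE.of_span (algebraMap S (Localization.Away j) '' {g : S | FibLE R (Localization.Away g) m}) ?_ ?_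
  · rw [← Ideal.map_span]
    have h1 : algebraMap S (Localization.Away j) j ∈ (smallIdeal R S m).map (algebraMap S (Localization.Away j)) :=
      Ideal.mem_map_of_mem _ hj
    exact Ideal.eq_top_of_isUnit_mem _ h1 (IsLocalization.Away.algebraMap_isUnit j)
  · rintro _ ⟨g, hg, rfl⟩
    exact (FibLE.away (show FibLE R (Localization.Away g) m from hg) _).of_algEquiv (awayComm g j)

theorem ringKrullDim_fiber_baseChange [Algebra.FiniteType R S] (R' : Type u) [CommRing R'] [Algebra R R']
    (p : Ideal R) [p.IsPrime] (p' : Ideal R') [p'.IsPrime] (hp : p = p'.comap (algebraMap R R')) :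
    ringKrullDim (p'.Fiber (R' ⊗[R] S)) = ringKrullDim (p.Fiber S) := by
  obtain ⟨_, e, -⟩ := exists_fibBC (S := S) R' p p' hp
  have h1 : ringKrullDim (p'.Fiber (R' ⊗[R] S)) = ringKrullDim (p'.ResidueField ⊗[p.ResidueField] (p.Fiber S)) :=
    ringKrullDim_eq_of_ringEquiv e.toRingEquiv
  rw [h1, ringKrullDim_tensor]

theorem isUnit_smul_one (p : Ideal R) [p.IsPrime] (r : R) (hr : r ∉ p) : IsUnit (r • (1 : p.Fiber S)) := by
  rw [← algebraMap_smul p.ResidueField r, ← Algebra.algebraMap_eq_smul_one]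
  refine IsUnit.map _ (IsUnit.mk0 _ ?_)
  rw [Ne, Ideal.algebraMap_residueField_eq_zero]
  exact hr

theorem quotient_map_subsingleton (I : Ideal R) (h : Subsingleton ((R ⧸ I) ⊗[R] S)) :
    Subsingleton (S ⧸ I.map (algebraMap R S)) := by
  let f : (R ⧸ I) →ₐ[R] (S ⧸ I.map (algebraMap R S)) := Ideal.Quotient.liftₐ I (Algebra.ofId R _) (by
    intro a ha
    change Ideal.Quotient.mk _ (algebraMap R S a) = 0
    rw [Ideal.Quotient.eq_zero_iff_mem]
    exact Ideal.mem_map_of_mem _ ha)
  let g := Algebra.TensorProduct.productMap f (Ideal.Quotient.mkₐ R (I.map (algebraMap R S)))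
  exact g.toRingHom.codomain_trivial

/-- The extension of an ideal to the fibre. -/
theorem exists_smul_eq_of_mem_map (p : Ideal R) [p.IsPrime] (J : Ideal S) (x : p.Fiber S)
    (hx : x ∈ J.map (Algebra.TensorProduct.includeRight : S →ₐ[R] p.Fiber S).toRingHom) :
    ∃ r ∉ p, ∃ j ∈ J, r • x = (1 : p.ResidueField) ⊗ₜ[R] j := by
  refine Submodule.span_induction ?_ ?_ ?_ ?_ hx
  · rintro _ ⟨j, hj, rfl⟩
    exact ⟨1, fun h => (inferInstance : p.IsPrime).ne_top ((Ideal.eq_top_iff_one p).mpr h), j, hj, one_smul _ _⟩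
  · exact ⟨1, fun h => (inferInstance : p.IsPrime).ne_top ((Ideal.eq_top_iff_one p).mpr h), 0, zero_mem _, by simp⟩
  · rintro x y - - ⟨r, hr, j, hj, hrj⟩ ⟨r', hr', j', hj', hrj'⟩
    refine ⟨r * r', fun h => ((inferInstance : p.IsPrime).mem_or_mem h).elim hr hr', r' • j + r • j',
      add_mem (by rw [Algebra.smul_def]; exact Ideal.mul_mem_left _ _ hj)
        (by rw [Algebra.smul_def]; exact Ideal.mul_mem_left _ _ hj'), ?_⟩
    rw [smul_add, tmul_add, tmul_smul, tmul_smul, ← hrj, ← hrj', smul_smul, smul_smul, mul_comm r' r]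
  · rintro a x - ⟨r, hr, j, hj, hrj⟩
    obtain ⟨r', hr', s, hs⟩ := Ideal.Fiber.exists_smul_eq_one_tmul p a
    refine ⟨r' * r, fun h => ((inferInstance : p.IsPrime).mem_or_mem h).elim hr' hr, s * j,
      Ideal.mul_mem_left _ _ hj, ?_⟩
    rw [smul_eq_mul, ← smul_mul_smul_comm, hs, hrj]
    simp

/-- If the local dimension of the fibre at `p` is small, the ideal of small fibres extends to the unit ideal. -/
theorem smallIdeal_map_fiber_eq_top [Algebra.FiniteType R S] (p : Ideal R) [p.IsPrime] (m : ℕ)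
    (h : ringKrullDim (p.Fiber S) ≤ m) :
    (smallIdeal R S m).map (Algebra.TensorProduct.includeRight : S →ₐ[R] p.Fiber S).toRingHom = ⊤ := by
  by_contra hne
  obtain ⟨Q, hQ, hle⟩ := Ideal.exists_le_maximal _ hne
  have hQp := hQ.isPrime
  obtain ⟨g, hg, hgm⟩ := exists_away_fiber_dim_le p Q _ rfl m ((localDim_le_ringKrullDim _ ⟨Q, hQp⟩).trans h)
  exact hg (hle (Ideal.mem_map_of_mem _ (Ideal.subset_span hgm)))

end Away

variable {R : Type u} [CommRing R] {n c : ℕ} (F : Fin c → MvPolynomial (Fin n) R)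

open K562.LocPres in
theorem isRelGCI_rel_of_mem_smallIdeal (hcn : c ≤ n) (h : MvPolynomial (Fin n) R)
    (hh : (Ideal.Quotient.mk (Ideal.span (Set.range F)) h : Synt.RelGCIRing R n c F) ∈
      smallIdeal R (Synt.RelGCIRing R n c F) (n - c)) :
    Synt.IsRelGCI R (n + 1) (c + 1) (rel F h) := by
  have h1 := (fibLE_away_of_mem_smallIdeal hh).of_algEquiv (equiv F h)
  have h2 : n + 1 - (c + 1) = n - c := Nat.succ_sub_succ _ _
  refine FibLE.isRelGCI _ (Nat.succ_le_succ hcn) ?_
  rw [h2]
  exact h1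

theorem exists_of_fiber (p : Ideal R) [p.IsPrime]
    (hp : c ≤ n ∧ ringKrullDim (p.Fiber (Synt.RelGCIRing R n c F)) = ((n - c : ℕ) : WithBot ℕ∞)) :
    ∃ h : MvPolynomial (Fin n) R,
      IsUnit ((1 : p.ResidueField) ⊗ₜ[R] (Ideal.Quotient.mk (Ideal.span (Set.range F)) h) :
        p.Fiber (Synt.RelGCIRing R n c F)) ∧
      Synt.IsRelGCI R (n + 1) (c + 1) (K562.LocPres.rel F h) := by
  obtain ⟨hcn, hdim⟩ := hp
  have h1 := smallIdeal_map_fiber_eq_top p (n - c) hdim.le
  obtain ⟨r, hr, j, hj, hrj⟩ := exists_smul_eq_of_mem_map p (smallIdeal R (Synt.RelGCIRing R n c F) (n - c)) 1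
    (h1 ▸ Submodule.mem_top)
  obtain ⟨h, rfl⟩ := Ideal.Quotient.mk_surjective j
  refine ⟨h, ?_, isRelGCI_rel_of_mem_smallIdeal F hcn h hj⟩
  rw [← hrj]
  exact isUnit_smul_one p r hr

theorem exists_of_quotient (I : Ideal R)
    (hI : Synt.IsRelGCI (R ⧸ I) n c (fun i => MvPolynomial.map (Ideal.Quotient.mk I) (F i))) :
    ∃ h : MvPolynomial (Fin n) R,
      Ideal.Quotient.mk (I.map (algebraMap R (Synt.RelGCIRing R n c F)))
        (Ideal.Quotient.mk (Ideal.span (Set.range F)) h) = 1 ∧
      Synt.IsRelGCI R (n + 1) (c + 1) (K562.LocPres.rel F h) := by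
  have hI' : Synt.IsRelGCI (R ⧸ I) n c (mapRel F (R ⧸ I)) := hI
  by_cases hcn : c ≤ n
  · have hfib : FibLE (R ⧸ I) ((R ⧸ I) ⊗[R] Synt.RelGCIRing R n c F) (n - c) :=
      (fibLE_of_isRelGCI _ hI').of_algEquiv (baseChangeEquiv F (R ⧸ I)).symm
    have htop : smallIdeal R (Synt.RelGCIRing R n c F) (n - c) ⊔
        I.map (algebraMap R (Synt.RelGCIRing R n c F)) = ⊤ := by
      by_contra hne
      obtain ⟨q, hq, hle⟩ := Ideal.exists_le_maximal _ hne
      have hqp := hq.isPrime
      let p := q.comap (algebraMap R (Synt.RelGCIRing R n c F))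
      have hpI : I ≤ p := fun x hx => hle (Ideal.mem_sup_right (Ideal.mem_map_of_mem _ hx))
      let p' : Ideal (R ⧸ I) := p.map (Ideal.Quotient.mk I)
      have hp' : p'.IsPrime := Ideal.map_isPrime_of_surjective Ideal.Quotient.mk_surjective
        (by rwa [Ideal.mk_ker])
      have hpp' : p = p'.comap (algebraMap R (R ⧸ I)) := by
        change p = (p.map (Ideal.Quotient.mk I)).comap (Ideal.Quotient.mk I)
        rw [Ideal.comap_map_of_surjective _ Ideal.Quotient.mk_surjective, ← RingHom.ker_eq_comap_bot, Ideal.mk_ker,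
          sup_eq_left.mpr hpI]
      have h1 := ringKrullDim_fiber_baseChange (S := Synt.RelGCIRing R n c F) (R ⧸ I) p p' hpp'
      have h2 := smallIdeal_map_fiber_eq_top p (n - c) (h1 ▸ hfib p')
      let P : PrimeSpectrum R := ⟨p, inferInstance⟩
      let e1 := PrimeSpectrum.preimageEquivFiber R (Synt.RelGCIRing R n c F) P
      let z := e1 ⟨⟨q, hq.isPrime⟩, rfl⟩
      have hz : z.asIdeal.comap (Algebra.TensorProduct.includeRight :
          (Synt.RelGCIRing R n c F) →ₐ[R] P.asIdeal.Fiber (Synt.RelGCIRing R n c F)).toRingHom = q := by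
        have h1 : e1.symm z = ⟨⟨q, hq.isPrime⟩, rfl⟩ := e1.symm_apply_apply _
        exact congrArg (fun y => y.1.asIdeal) h1
      have h3 : (smallIdeal R (Synt.RelGCIRing R n c F) (n - c)).map
          (Algebra.TensorProduct.includeRight : (Synt.RelGCIRing R n c F) →ₐ[R] P.asIdeal.Fiber _).toRingHom ≤
            z.asIdeal := by
        rw [Ideal.map_le_iff_le_comap, hz]
        exact le_sup_left.trans hle
      exact z.2.ne_top (top_le_iff.mp (h2 ▸ h3))
    obtain ⟨j, hj, i, hi, hji⟩ := Submodule.mem_sup.mp (htop ▸ Submodule.mem_top :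
      (1 : Synt.RelGCIRing R n c F) ∈ smallIdeal R (Synt.RelGCIRing R n c F) (n - c) ⊔
        I.map (algebraMap R (Synt.RelGCIRing R n c F)))
    obtain ⟨h, rfl⟩ := Ideal.Quotient.mk_surjective j
    refine ⟨h, ?_, isRelGCI_rel_of_mem_smallIdeal F hcn h hj⟩
    rw [← map_one (Ideal.Quotient.mk (I.map (algebraMap R (Synt.RelGCIRing R n c F)))), ← sub_eq_zero, ← map_sub,
      Ideal.Quotient.eq_zero_iff_mem, ← hji, sub_add_cancel_left]
    exact neg_mem hi
  · have h1 := subsingleton_of_isRelGCI _ hI' hcn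
    refine ⟨0, ?_, isRelGCI_of_subsingleton _ ?_⟩
    · have h2 := quotient_map_subsingleton (S := Synt.RelGCIRing R n c F) I
        (baseChangeEquiv F (R ⧸ I)).injective.subsingleton
      exact Subsingleton.elim _ _
    · have h2 : IsUnit (0 : Synt.RelGCIRing R (n + 1) (c + 1) (K562.LocPres.rel F 0)) := by
        have h3 := K562.LocPres.isUnit_bwd₀ F 0
        rwa [K562.LocPres.hbar, map_zero, map_zero] at h3
      exact subsingleton_of_zero_eq_one (isUnit_zero_iff.mp h2)

end K562.Rel
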