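import Groth.Prelude.Def_RegImm
import Groth.Agent.Synt.K562.FieldCI3
import Groth.Agent.CalgC.DimFT
import Mathlib.RingTheory.TensorProduct.MvPolynomial
import Mathlib.RingTheory.TensorProduct.Quotient
import Mathlib.RingTheory.LocalRing.ResidueField.Fiber

/-!
# Base change of presentations

`R' ⊗ R[x]/(F) ≅ R'[x]/(F)`, dimension of the fibres of a presented algebra.
-/

set_option autoImplicit false

namespace K562.Rel

open MvPolynomial TensorProduct

universe u

section BaseChange

variable {R : Type u} [CommRing R] {n c : ℕ} (F : Fin c → MvPolynomial (Fin n) R)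
  (R' : Type u) [CommRing R'] [Algebra R R']

/-- The relations over `R'`. -/
noncomputable abbrev mapRel : Fin c → MvPolynomial (Fin n) R' := fun i => MvPolynomial.map (algebraMap R R') (F i)

theorem map_span_range :
    (Ideal.map (Algebra.TensorProduct.includeRight (R := R) (A := R')) (Ideal.span (Set.range F))).map
      (algebraTensorAlgEquiv R R' : R' ⊗[R] MvPolynomial (Fin n) R ≃ₐ[R'] _) =
      Ideal.span (Set.range (mapRel F R')) := by
  rw [Ideal.map_span, Ideal.map_span]
  congr 1
  ext x
  constructor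
  · rintro ⟨_, ⟨_, ⟨i, rfl⟩, rfl⟩, rfl⟩
    exact ⟨i, by simp [mapRel]⟩
  · rintro ⟨i, rfl⟩
    exact ⟨_, ⟨_, ⟨i, rfl⟩, rfl⟩, by simp [mapRel]⟩

/-- `R' ⊗ R[x]/(F) ≅ R'[x]/(F)`. -/
noncomputable def baseChangeEquiv :
    R' ⊗[R] Synt.RelGCIRing R n c F ≃ₐ[R'] Synt.RelGCIRing R' n c (mapRel F R') :=
  (Algebra.TensorProduct.tensorQuotientEquiv R' (MvPolynomial (Fin n) R) R' (Ideal.span (Set.range F))).trans
    (Ideal.quotientEquivAlg _ _ (algebraTensorAlgEquiv R R') (map_span_range F R').symm)

theorem baseChangeEquiv_tmul (p : MvPolynomial (Fin n) R) :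
    baseChangeEquiv F R' ((1 : R') ⊗ₜ[R] (Ideal.Quotient.mk (Ideal.span (Set.range F)) p)) =
      Ideal.Quotient.mk _ (MvPolynomial.map (algebraMap R R') p) := by
  have h := Algebra.TensorProduct.tensorQuotientEquiv_apply_tmul (R := R) R' (MvPolynomial (Fin n) R) R'
    (Ideal.span (Set.range F)) 1 p
  rw [baseChangeEquiv, AlgEquiv.trans_apply]
  erw [h]
  change Ideal.Quotient.mk _ (algebraTensorAlgEquiv R R' (1 ⊗ₜ[R] p)) = _
  rw [algebraTensorAlgEquiv_tmul, one_smul]

end BaseChange

section Dim

/-- The dimension of a finite type algebra over a field is invariant under extension of the base field. -/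
theorem ringKrullDim_tensor (k : Type u) (K A : Type u) [Field k] [Field K] [CommRing A] [Algebra k K] [Algebra k A]
    [Algebra.FiniteType k A] : ringKrullDim (K ⊗[k] A) = ringKrullDim A := by
  rcases subsingleton_or_nontrivial A with hA | hA
  · have : Subsingleton (K ⊗[k] A) := by
      refine subsingleton_of_zero_eq_one ?_
      have : (1 : K ⊗[k] A) = (1 : K) ⊗ₜ[k] (1 : A) := rfl
      rw [this, Subsingleton.elim (1 : A) 0, tmul_zero]
    rw [ringKrullDim_eq_bot_of_subsingleton, ringKrullDim_eq_bot_of_subsingleton]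
  obtain ⟨d, g, hg, hgf⟩ := exists_finite_inj_algHom_of_fg k A
  algebraize [g.toRingHom]
  have hfin : Module.Finite (MvPolynomial (Fin d) k) A := hgf
  have htow : IsScalarTower k (MvPolynomial (Fin d) k) A := .of_algebraMap_eq' (by
    ext x; simp [RingHom.algebraMap_toAlgebra])
  have : FaithfulSMul (MvPolynomial (Fin d) k) A :=
      (faithfulSMul_iff_algebraMap_injective _ _).mpr hg
  have h1 : ringKrullDim A = d := by
    rw [Groth.Agent.CalgC.DimFT.ringKrullDim_eq_of_isIntegral (R := MvPolynomial (Fin d) k) (S := A),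
      Groth.Agent.CalgC.DimFT.ringKrullDim_mvPolynomial_fin]
  let g' : K ⊗[k] MvPolynomial (Fin d) k →ₐ[K] K ⊗[k] A := Algebra.TensorProduct.map (AlgHom.id K K) g
  have hg' : Function.Injective g' := by
    have : Function.Injective (g.toLinearMap.lTensor K) := Module.Flat.lTensor_preserves_injective_linearMap _ hg
    exact this
  have hint : g'.toRingHom.IsIntegral := by
    intro z
    induction z using TensorProduct.induction_on with
    | zero => exact g'.toRingHom.isIntegralElem_zero
    | add x y hx hy => exact hx.add g'.toRingHom hy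
    | tmul x a =>
      have h3 : x ⊗ₜ[k] a = g' (x ⊗ₜ 1) * ((1 : K) ⊗ₜ[k] a) := by simp [g']
      rw [h3]
      refine RingHom.IsIntegralElem.mul _ (RingHom.isIntegralElem_map g'.toRingHom) ?_
      obtain ⟨p, hp, hp0⟩ := (Algebra.IsIntegral.isIntegral (R := MvPolynomial (Fin d) k) a : IsIntegral _ a)
      refine ⟨p.map (Algebra.TensorProduct.includeRight (R := k) (A := K) (B := MvPolynomial (Fin d) k)).toRingHom,
        hp.map _, ?_⟩
      rw [Polynomial.eval₂_map]
      have h4 : g'.toRingHom.comp (Algebra.TensorProduct.includeRight (R := k) (A := K)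
          (B := MvPolynomial (Fin d) k)).toRingHom =
          (Algebra.TensorProduct.includeRight (R := k) (A := K) (B := A)).toRingHom.comp
            (algebraMap (MvPolynomial (Fin d) k) A) := by
        refine RingHom.ext fun y => ?_
        change g' ((1 : K) ⊗ₜ[k] y) = (1 : K) ⊗ₜ[k] g y
        simp [g']
      rw [h4]
      have h5 := Polynomial.hom_eval₂ p (algebraMap (MvPolynomial (Fin d) k) A)
        (Algebra.TensorProduct.includeRight (R := k) (A := K) (B := A)).toRingHom a
      rw [hp0, map_zero] at h5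
      exact h5.symm
  algebraize [g'.toRingHom]
  have : Algebra.IsIntegral (K ⊗[k] MvPolynomial (Fin d) k) (K ⊗[k] A) := ⟨hint⟩
  have : FaithfulSMul (K ⊗[k] MvPolynomial (Fin d) k) (K ⊗[k] A) :=
    (faithfulSMul_iff_algebraMap_injective _ _).mpr hg'
  rw [Groth.Agent.CalgC.DimFT.ringKrullDim_eq_of_isIntegral (R := K ⊗[k] MvPolynomial (Fin d) k)
    (S := K ⊗[k] A), ringKrullDim_eq_of_ringEquiv (algebraTensorAlgEquiv k K).toRingEquiv,
    Groth.Agent.CalgC.DimFT.ringKrullDim_mvPolynomial_fin, h1]

end Dim

end K562.Rel
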