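import Groth.Prelude.Def_RegImm
import Groth.Agent.Synt.K562.FieldDim
import Groth.Agent.Synt.K562.LocPres
import Groth.Agent.S2842
import Mathlib.RingTheory.EssentialFiniteness
import Mathlib.RingTheory.Localization.Algebra

/-!
# Complete intersections over a field

* `isCI_atPrime_of_isGlobalCI`: all local rings of a global complete intersection are complete
  intersections (in the absolute sense of `Pi1.IsCompleteIntersection`);
* `exists_isGlobalCI_away`: conversely, if `S_q` is a complete intersection, some `S_g`, `g ∉ q`, is a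
  global complete intersection;
* `isCIOver_iff`: for a local algebra essentially of finite type over a field, `Synt.IsCIOver` is the same
  as `Pi1.IsCompleteIntersection`.
-/

set_option autoImplicit false

namespace K562.FieldCI

open RingTheory.Sequence IsLocalRing Groth.Agent.VarietyB.DimRing K562.FieldDim

universe u

section Loc

variable {R P : Type u} [CommRing R] [CommRing P] (I : Ideal R) [I.IsPrime] (J : Ideal P) [J.IsPrime]
  (f : R →+* P) (hIJ : I = J.comap f)

include hIJ in
theorem map_primeCompl_eq (hf : Function.Surjective f) :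
    Submonoid.map f I.primeCompl = J.primeCompl := by
  ext y
  constructor
  · rintro ⟨x, hx, rfl⟩
    subst hIJ
    exact hx
  · intro hy
    obtain ⟨x, rfl⟩ := hf y
    refine ⟨x, ?_, rfl⟩
    subst hIJ
    exact hy

theorem localRingHom_surjective (hf : Function.Surjective f) :
    Function.Surjective (Localization.localRingHom I J f hIJ) := by
  intro y
  obtain ⟨y, s, rfl⟩ := IsLocalization.exists_mk'_eq J.primeCompl y
  obtain ⟨y, rfl⟩ := hf y
  have hs : s.1 ∈ Submonoid.map f I.primeCompl := by
    rw [map_primeCompl_eq I J f hIJ hf]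
    exact s.2
  obtain ⟨t, ht, hts⟩ := hs
  refine ⟨IsLocalization.mk' _ y ⟨t, ht⟩, ?_⟩
  rw [Localization.localRingHom_mk']
  congr 1
  exact Subtype.ext hts

theorem ker_localRingHom (hf : Function.Surjective f) :
    RingHom.ker (Localization.localRingHom I J f hIJ) =
      (RingHom.ker f).map (algebraMap R (Localization.AtPrime I)) :=
  IsLocalization.ker_map _ _ (map_primeCompl_eq I J f hIJ hf)

end Loc

section Basic

variable {A : Type u} [CommRing A]

theorem ofList_ofFn_map {B : Type u} [CommRing B] (g : A →+* B) {c : ℕ} (r : Fin c → A) :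
    Ideal.ofList ((List.ofFn r).map g) = (Ideal.span (Set.range r)).map g := by
  rw [Ideal.map_span, Ideal.ofList]
  congr 1
  ext x
  simp [List.mem_ofFn]

theorem ofList_ofFn {c : ℕ} (r : Fin c → A) :
    Ideal.ofList (List.ofFn r) = Ideal.span (Set.range r) := by
  rw [Ideal.ofList]
  congr 1
  ext x
  simp [List.mem_ofFn]

/-- If `I` is finitely generated and `I A_Q` is generated by `c` elements, then `c` elements of `I` generate
it after multiplication by some `h ∉ Q`. -/
theorem exists_generators_mul (I Q : Ideal A) [Q.IsPrime] (hI : I.FG)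
    (rs : List (Localization.AtPrime Q)) (hrs : Ideal.ofList rs = I.map (algebraMap A (Localization.AtPrime Q))) :
    ∃ f : Fin rs.length → A, (∀ i, f i ∈ I) ∧
      (∀ i, Associated (algebraMap A (Localization.AtPrime Q) (f i)) (rs.get i)) ∧
      ∃ h : A, h ∉ Q ∧ ∀ x ∈ I, h * x ∈ Ideal.span (Set.range f) := by
  classical
  have h1 : ∀ i : Fin rs.length, ∃ x : I × Q.primeCompl, rs.get i * algebraMap A _ (x.2 : A) =
      algebraMap A (Localization.AtPrime Q) x.1 := by
    intro i
    rw [← IsLocalization.mem_map_algebraMap_iff (M := Q.primeCompl), ← hrs]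
    exact Ideal.subset_span (List.get_mem _ _)
  choose x hx using h1
  have hass : ∀ i, Associated (algebraMap A (Localization.AtPrime Q) ((x i).1 : A)) (rs.get i) := by
    intro i
    rw [← hx i]
    exact associated_mul_unit_left _ _ (IsLocalization.map_units _ (x i).2)
  refine ⟨fun i => (x i).1, fun i => (x i).1.2, hass, ?_⟩
  set J := Ideal.span (Set.range fun i => ((x i).1 : A)) with hJ
  have hJmap : J.map (algebraMap A (Localization.AtPrime Q)) = I.map (algebraMap A (Localization.AtPrime Q)) := by
    rw [← hrs, hJ, Ideal.map_span]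
    apply le_antisymm
    · rw [Ideal.span_le]
      rintro _ ⟨_, ⟨i, rfl⟩, rfl⟩
      obtain ⟨u, hu⟩ := (hass i).symm
      change algebraMap A _ ((x i).1 : A) ∈ Ideal.ofList rs
      rw [← hu]
      exact Ideal.mul_mem_right _ _ (Ideal.subset_span (List.get_mem _ _))
    · rw [Ideal.ofList, Ideal.span_le]
      intro z hz
      obtain ⟨i, rfl⟩ := List.mem_iff_get.mp hz
      obtain ⟨u, hu⟩ := hass i
      rw [← hu]
      exact Ideal.mul_mem_right _ _ (Ideal.subset_span ⟨_, ⟨i, rfl⟩, rfl⟩)
  obtain ⟨s, hs⟩ := hI
  have h2 : ∀ y ∈ s, ∃ t : A, t ∉ Q ∧ t * y ∈ J := by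
    intro y hy
    have : algebraMap A (Localization.AtPrime Q) y ∈ J.map (algebraMap A (Localization.AtPrime Q)) := by
      rw [hJmap]
      refine Ideal.mem_map_of_mem _ ?_
      rw [← hs]
      exact Ideal.subset_span hy
    rw [IsLocalization.algebraMap_mem_map_algebraMap_iff Q.primeCompl] at this
    obtain ⟨t, ht, hty⟩ := this
    exact ⟨t, ht, hty⟩
  choose! t ht hty using h2
  refine ⟨∏ y ∈ s, t y, fun hmem => ?_, ?_⟩
  · obtain ⟨y, hy, hy'⟩ := (Ideal.IsPrime.prod_mem_iff (p := Q) (s := s)).mp hmem
    exact ht y hy hy'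
  · intro z hz
    rw [← hs] at hz
    induction hz using Submodule.span_induction with
    | mem y hy =>
      obtain ⟨w, hw⟩ := Finset.dvd_prod_of_mem t hy
      rw [hw, mul_comm (t y) w, mul_assoc]
      exact Ideal.mul_mem_left _ _ (hty y hy)
    | zero => simp
    | add a b _ _ ha hb => rw [mul_add]; exact Ideal.add_mem _ ha hb
    | smul a b _ hb =>
      rw [smul_eq_mul, mul_left_comm]
      exact Ideal.mul_mem_left _ _ hb

end Basic

section Dim

variable (k : Type u) [Field k]

/-- Krull: `c` relations cut the dimension of affine space down by at most `c`. -/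
theorem le_ringKrullDim {n c : ℕ} (r : Fin c → MvPolynomial (Fin n) k)
    (h : Ideal.span (Set.range r) ≠ ⊤) :
    ((n - c : ℕ) : WithBot ℕ∞) ≤ ringKrullDim (MvPolynomial (Fin n) k ⧸ Ideal.span (Set.range r)) := by
  obtain ⟨p, hp⟩ := Ideal.nonempty_minimalPrimes h
  have hpp : p.IsPrime := hp.1.1
  have h1 : p.height ≤ c := by
    refine (Ideal.height_le_card_of_mem_minimalPrimes_span (Set.finite_range r) hp).trans ?_
    have : (Set.range r).ncard ≤ c := by
      rw [← Set.image_univ]
      refine (Set.ncard_image_le Set.finite_univ).trans ?_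
      simp
    exact_mod_cast this
  obtain ⟨h', d, hh, hd, hhd⟩ := exists_nat_mv k p
  rw [hh] at h1
  have h2 : h' ≤ c := by exact_mod_cast h1
  have h3 : (d : WithBot ℕ∞) ≤ ringKrullDim (MvPolynomial (Fin n) k ⧸ Ideal.span (Set.range r)) := by
    rw [← hd]
    exact ringKrullDim_le_of_surjective (Ideal.Quotient.factor hp.1.2) (Ideal.Quotient.factor_surjective hp.1.2)
  refine le_trans ?_ h3
  have : n - c ≤ d := by omega
  exact_mod_cast this

theorem le_ringKrullDim' {S : Type u} [CommRing S] [Nontrivial S] {n c : ℕ}
    (φ : MvPolynomial (Fin n) k →+* S) (hφ : Function.Surjective φ) (r : Fin c → MvPolynomial (Fin n) k)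
    (hker : RingHom.ker φ = Ideal.span (Set.range r)) : ((n - c : ℕ) : WithBot ℕ∞) ≤ ringKrullDim S := by
  have h := le_ringKrullDim k r (by rw [← hker]; exact RingHom.ker_ne_top φ)
  rwa [← hker, ringKrullDim_eq_of_ringEquiv (RingHom.quotientKerEquivOfSurjective hφ)] at h

/-- Localizing does not increase the Krull dimension. -/
theorem ringKrullDim_localization_le {A B : Type*} [CommRing A] [CommRing B] [Algebra A B] (M : Submonoid A)
    [IsLocalization M B] : ringKrullDim B ≤ ringKrullDim A := by
  rw [ringKrullDim_le_iff_height_le]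
  intro P hP
  rw [← IsLocalization.height_under M P]
  have : (P.under A).IsPrime := Ideal.IsPrime.under _ _
  exact Ideal.height_le_ringKrullDim_of_isPrime

end Dim

section GlobalCI

variable (k : Type u) [Field k]

/-- All local rings of a global complete intersection are complete intersections. -/
theorem isCI_atPrime_of_isGlobalCI {S : Type u} [CommRing S] [Algebra k S] (h : Synt.IsGlobalCI k S)
    (q : Ideal S) [hq : q.IsPrime] : Pi1.IsCompleteIntersection (Localization.AtPrime q) := by
  rcases h with h | ⟨n, c, hcn, φ, r, hφ, hker, hdim⟩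
  · exact absurd (Subsingleton.elim _ _) hq.ne_top
  let Q : Ideal (MvPolynomial (Fin n) k) := q.comap φ.toRingHom
  have hQ : Ideal.span (Set.range r) ≤ Q := by
    rw [← hker]
    exact Ideal.comap_mono bot_le
  have hd : ringKrullDim (MvPolynomial (Fin n) k ⧸ Ideal.span (Set.range r)) ≤ ((n - c : ℕ) : WithBot ℕ∞) := by
    rw [← hdim, ← hker, ringKrullDim_eq_of_ringEquiv (RingHom.quotientKerEquivOfSurjective
      (f := φ.toRingHom) hφ)]
  have hreg := isRegular_of_dim_le k hcn r hd Q hQ
  rw [Groth.Agent.S2842.isCompleteIntersection_iff_of_surjective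
    (Localization.localRingHom Q q φ.toRingHom rfl) (localRingHom_surjective _ _ _ rfl hφ)]
  refine ⟨_, hreg, ?_⟩
  rw [ker_localRingHom _ _ _ rfl hφ, hker, ofList_ofFn_map]

/-- A localization of a global complete intersection is a global complete intersection. -/
theorem isGlobalCI_away {S : Type u} [CommRing S] [Algebra k S] (h : Synt.IsGlobalCI k S) (g : S)
    (B : Type u) [CommRing B] [Algebra k B] [Algebra S B] [IsScalarTower k S B] [IsLocalization.Away g B] :
    Synt.IsGlobalCI k B := by
  rcases h with h | ⟨n, c, hcn, φ, r, hφ, hker, hdim⟩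
  · left
    refine subsingleton_of_zero_eq_one ?_
    rw [← map_zero (algebraMap S B), ← map_one (algebraMap S B), Subsingleton.elim (0 : S) 1]
  rcases subsingleton_or_nontrivial B with hB | hB
  · exact Or.inl hB
  obtain ⟨h, rfl⟩ := hφ g
  right
  let e₀ : Synt.RelGCIRing k n c r ≃ₐ[k] S :=
    (Ideal.quotientEquivAlgOfEq k hker.symm).trans (Ideal.quotientKerAlgEquivOfSurjective hφ)
  have he₀ : ∀ p, e₀ (Ideal.Quotient.mk _ p) = φ p := fun p => rfl
  let e₁ : Localization.Away (LocPres.hbar r h) ≃ₐ[k] B :=
    { IsLocalization.ringEquivOfRingEquiv (M := Submonoid.powers (LocPres.hbar r h))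
        (T := Submonoid.powers (φ h)) (Localization.Away (LocPres.hbar r h)) B e₀.toRingEquiv (by
          rw [Submonoid.map_powers]
          rfl) with
      commutes' := fun x => by
        change IsLocalization.ringEquivOfRingEquiv _ _ _ _ (algebraMap k _ x) = _
        rw [IsScalarTower.algebraMap_apply k (Synt.RelGCIRing k n c r) (Localization.Away _),
          IsLocalization.ringEquivOfRingEquiv_eq, IsScalarTower.algebraMap_apply k S B]
        congr 1
        exact e₀.commutes x }
  let e := (LocPres.equiv r h).symm.trans e₁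
  refine ⟨n + 1, c + 1, by omega, e.toAlgHom.comp (Ideal.Quotient.mkₐ k _), LocPres.rel r h,
    e.surjective.comp Ideal.Quotient.mk_surjective, ?_, ?_⟩
  · ext x
    simp only [RingHom.mem_ker]
    change e (Ideal.Quotient.mk _ x) = 0 ↔ _
    rw [EmbeddingLike.map_eq_zero_iff, Ideal.Quotient.eq_zero_iff_mem]
  · rw [Nat.add_sub_add_right]
    apply le_antisymm
    · rw [← hdim]
      exact ringKrullDim_localization_le (Submonoid.powers (φ h))
    · have h1 := le_ringKrullDim' k (e.toAlgHom.comp (Ideal.Quotient.mkₐ k
        (Ideal.span (Set.range (LocPres.rel r h))))).toRingHom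
        (e.surjective.comp Ideal.Quotient.mk_surjective) (LocPres.rel r h) (by
          ext x
          simp only [RingHom.mem_ker]
          change e (Ideal.Quotient.mk _ x) = 0 ↔ _
          rw [EmbeddingLike.map_eq_zero_iff, Ideal.Quotient.eq_zero_iff_mem])
      rwa [Nat.add_sub_add_right] at h1

end GlobalCI

end K562.FieldCI
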