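import Groth.Agent.Synt.K562.FieldCI
import Mathlib.RingTheory.EssentialFiniteness

/-!
# Complete intersections over a field, continued

From the local ring to a neighbourhood.
-/

set_option autoImplicit false

namespace K562.FieldCI

open RingTheory.Sequence IsLocalRing Groth.Agent.VarietyB.DimRing K562.FieldDim

universe u

section

theorem ringKrullDim_le_of_isUnit {A B C : Type*} [CommRing A] [CommRing B] [CommRing C] [Algebra A B]
    [Algebra A C] (s : A) [IsLocalization.Away s B] (N : Submonoid A) [IsLocalization N C]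
    (hs : IsUnit (algebraMap A C s)) : ringKrullDim C ≤ ringKrullDim B := by
  rw [ringKrullDim_le_iff_height_le]
  intro P hP
  rw [← IsLocalization.height_under N P]
  have hp : (P.under A).IsPrime := Ideal.IsPrime.under _ _
  have hsp : s ∉ P.under A := fun h => hP.ne_top (Ideal.eq_top_of_isUnit_mem _ h hs)
  have disj : Disjoint (Submonoid.powers s : Set A) (P.under A) := by
    rw [Set.disjoint_left]
    rintro _ ⟨m, rfl⟩ hm
    exact hsp (hp.mem_of_pow_mem m hm)
  have hprime : ((P.under A).map (algebraMap A B)).IsPrime :=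
    IsLocalization.isPrime_of_isPrime_disjoint (Submonoid.powers s) B _ hp disj
  rw [← IsLocalization.height_map_of_disjoint (Submonoid.powers s) (S := B) (P.under A) disj]
  exact Ideal.height_le_ringKrullDim_of_isPrime

end

section

variable (k : Type u) [Field k] {n : ℕ}

/-- The data attached to a regular sequence generating the extension of an ideal to a local ring of affine
space. -/
theorem length_add_height (I Q : Ideal (MvPolynomial (Fin n) k)) [Q.IsPrime] (hIQ : I ≤ Q)
    (rs : List (Localization.AtPrime Q)) (hreg : IsRegular (Localization.AtPrime Q) rs)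
    (hrs : Ideal.ofList rs = I.map (algebraMap _ (Localization.AtPrime Q))) :
    (rs.length : ℕ∞) + (Q.map (Ideal.Quotient.mk I)).height = Q.height := by
  have h1 := ringKrullDim_add_length_eq_ringKrullDim_of_isRegular rs hreg
  rw [hrs, ringKrullDim_atPrime_quotient _ _ hIQ, IsLocalization.AtPrime.ringKrullDim_eq_height Q] at h1
  rw [add_comm]
  exact_mod_cast h1

/-- Passage from the local ring to a neighbourhood. -/
theorem exists_isGlobalCI_away_of_isRegular (I Q : Ideal (MvPolynomial (Fin n) k)) [Q.IsPrime] (hIQ : I ≤ Q)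
    (rs : List (Localization.AtPrime Q)) (hreg : IsRegular (Localization.AtPrime Q) rs)
    (hrs : Ideal.ofList rs = I.map (algebraMap _ (Localization.AtPrime Q))) :
    ∃ h : MvPolynomial (Fin n) k, h ∉ Q ∧
      Synt.IsGlobalCI k (Localization.Away (Ideal.Quotient.mk I h)) := by
  have hlen := length_add_height k I Q hIQ rs hreg hrs
  have hqp := isPrime_map_quotient hIQ
  set q := Q.map (Ideal.Quotient.mk I) with hq
  obtain ⟨f, hfI, -, h, hh, hhI⟩ := exists_generators_mul I Q (IsNoetherian.noetherian I) rs hrs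
  set J := Ideal.span (Set.range f) with hJ
  have hJI : J ≤ I := by
    rw [hJ, Ideal.span_le]
    rintro _ ⟨i, rfl⟩
    exact hfI i
  obtain ⟨s, hs, hsdim⟩ := exists_localization_dim_le.{u, u, u} k q
  obtain ⟨s, rfl⟩ := Ideal.Quotient.mk_surjective s
  have hsQ : s ∉ Q := fun h => hs (Ideal.mem_map_of_mem _ h)
  refine ⟨h * s, fun hmem => ?_, ?_⟩
  · rcases Ideal.IsPrime.mem_or_mem ‹Q.IsPrime› hmem with h' | h'
    · exact hh h'
    · exact hsQ h'
  -- dimensions
  obtain ⟨a, d, ha, hd, had⟩ := exists_nat_mv k Q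
  obtain ⟨b, hb⟩ : ∃ b : ℕ, q.height = b := by
    have : q.height ≠ ⊤ := Ideal.height_ne_top (Ideal.IsPrime.ne_top ‹_›)
    exact ⟨q.height.toNat, (ENat.natCast_toNat this).symm⟩
  rw [hb, ha] at hlen
  have hlen' : rs.length + b = a := by exact_mod_cast hlen
  have hSq : ringKrullDim ((MvPolynomial (Fin n) k ⧸ I) ⧸ q) = d := by
    rw [← hd]
    exact ringKrullDim_eq_of_ringEquiv (DoubleQuot.quotQuotEquivQuotOfLE hIQ)
  let C := Localization.Away (Ideal.Quotient.mk I (h * s))
  have hdimC : ringKrullDim C ≤ ((n - rs.length : ℕ) : WithBot ℕ∞) := by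
    have h1 : ringKrullDim C ≤ ringKrullDim (Localization.Away (Ideal.Quotient.mk I s)) := by
      refine ringKrullDim_le_of_isUnit (Ideal.Quotient.mk I s)
        (Submonoid.powers (Ideal.Quotient.mk I (h * s))) ?_
      have : IsUnit (algebraMap _ C (Ideal.Quotient.mk I h) * algebraMap _ C (Ideal.Quotient.mk I s)) := by
        rw [← map_mul, ← map_mul]
        exact IsLocalization.Away.algebraMap_isUnit (S := C) (Ideal.Quotient.mk I (h * s))
      exact isUnit_of_mul_isUnit_right this
    refine h1.trans ((hsdim _).trans ?_)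
    rw [hb, hSq]
    have : b + d ≤ n - rs.length := by omega
    rw [show ((b : ℕ∞) : WithBot ℕ∞) = (b : WithBot ℕ∞) from rfl, ← Nat.cast_add]
    exact Nat.cast_le.mpr this
  -- nontriviality
  have hCn : Nontrivial C := by
    rw [← not_subsingleton_iff_nontrivial]
    intro hsub
    have h01 : algebraMap (MvPolynomial (Fin n) k ⧸ I) C 1 = algebraMap _ C 0 := Subsingleton.elim _ _
    obtain ⟨⟨_, m, rfl⟩, hm⟩ := IsLocalization.exists_of_eq
      (M := Submonoid.powers (Ideal.Quotient.mk I (h * s))) h01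
    have hm' : (Ideal.Quotient.mk I (h * s)) ^ m = 0 := by simpa using hm
    rw [← map_pow, Ideal.Quotient.eq_zero_iff_mem] at hm'
    have := Ideal.IsPrime.mem_of_pow_mem ‹Q.IsPrime› m (hIQ hm')
    rcases Ideal.IsPrime.mem_or_mem ‹Q.IsPrime› this with h' | h'
    · exact hh h'
    · exact hsQ h'
  -- the algebra structure over `P / J`
  let P := MvPolynomial (Fin n) k
  let alg : Algebra (P ⧸ J) C := ((algebraMap (P ⧸ I) C).comp (Ideal.Quotient.factor hJI)).toAlgebra
  have halg : ∀ p : P, algebraMap (P ⧸ J) C (Ideal.Quotient.mk J p) =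
      algebraMap (P ⧸ I) C (Ideal.Quotient.mk I p) := fun p => rfl
  have tow : IsScalarTower k (P ⧸ J) C := @IsScalarTower.of_algebraMap_eq' k (P ⧸ J) C _ _ _ _ _ _ rfl
  have loc : IsLocalization.Away (Ideal.Quotient.mk J (h * s)) C := by
    refine (isLocalization_iff _ _).mpr ⟨?_, ?_, ?_⟩
    · rintro ⟨_, m, rfl⟩
      change IsUnit (algebraMap (P ⧸ J) C ((Ideal.Quotient.mk J (h * s)) ^ m))
      rw [map_pow, halg]
      exact (IsLocalization.Away.algebraMap_isUnit _).pow m
    · intro z
      obtain ⟨⟨x, ⟨_, m, rfl⟩⟩, hx⟩ := IsLocalization.surj (Submonoid.powers (Ideal.Quotient.mk I (h * s))) z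
      obtain ⟨x, rfl⟩ := Ideal.Quotient.mk_surjective x
      refine ⟨⟨Ideal.Quotient.mk J x, ⟨_, m, rfl⟩⟩, ?_⟩
      change z * algebraMap (P ⧸ J) C ((Ideal.Quotient.mk J (h * s)) ^ m) = _
      rw [map_pow, halg, halg, ← map_pow]
      exact hx
    · intro x y hxy
      obtain ⟨x, rfl⟩ := Ideal.Quotient.mk_surjective x
      obtain ⟨y, rfl⟩ := Ideal.Quotient.mk_surjective y
      rw [halg, halg] at hxy
      obtain ⟨⟨_, m, rfl⟩, hm⟩ := IsLocalization.exists_of_eq
        (M := Submonoid.powers (Ideal.Quotient.mk I (h * s))) hxy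
      have hm' : (Ideal.Quotient.mk I (h * s)) ^ m * Ideal.Quotient.mk I x =
        (Ideal.Quotient.mk I (h * s)) ^ m * Ideal.Quotient.mk I y := hm
      refine ⟨⟨_, m + 1, rfl⟩, ?_⟩
      change (Ideal.Quotient.mk J (h * s)) ^ (m + 1) * Ideal.Quotient.mk J x =
        (Ideal.Quotient.mk J (h * s)) ^ (m + 1) * Ideal.Quotient.mk J y
      rw [← map_pow, ← map_mul, ← map_mul, Ideal.Quotient.eq] at hm' ⊢
      have h1 := Ideal.mul_mem_left J s (hhI _ hm')
      have h2 : (h * s) ^ (m + 1) * x - (h * s) ^ (m + 1) * y =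
        s * (h * ((h * s) ^ m * x - (h * s) ^ m * y)) := by ring
      rw [h2]
      exact h1
  let e₁ : Localization.Away (LocPres.hbar f (h * s)) ≃ₐ[P ⧸ J] C :=
    IsLocalization.algEquiv (Submonoid.powers (Ideal.Quotient.mk J (h * s))) _ _
  let e := (LocPres.equiv f (h * s)).symm.trans (e₁.restrictScalars k)
  right
  have hker : RingHom.ker (e.toAlgHom.comp (Ideal.Quotient.mkₐ k
      (Ideal.span (Set.range (LocPres.rel f (h * s)))))).toRingHom =
        Ideal.span (Set.range (LocPres.rel f (h * s))) := by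
    ext x
    simp only [RingHom.mem_ker]
    change e (Ideal.Quotient.mk _ x) = 0 ↔ _
    rw [EmbeddingLike.map_eq_zero_iff, Ideal.Quotient.eq_zero_iff_mem]
  refine ⟨n + 1, rs.length + 1, by omega, e.toAlgHom.comp (Ideal.Quotient.mkₐ k _),
    LocPres.rel f (h * s), e.surjective.comp Ideal.Quotient.mk_surjective, hker, ?_⟩
  rw [Nat.add_sub_add_right]
  apply le_antisymm hdimC
  have h1 := le_ringKrullDim' k (e.toAlgHom.comp (Ideal.Quotient.mkₐ k
    (Ideal.span (Set.range (LocPres.rel f (h * s)))))).toRingHom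
    (e.surjective.comp Ideal.Quotient.mk_surjective) (LocPres.rel f (h * s)) hker
  rwa [Nat.add_sub_add_right] at h1

end

end K562.FieldCI
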