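import Groth.Agent.Synt.K562.Rel3
import Groth.Agent.CalgC.LocalDimBC

/-!
# Fibre dimension and base change
-/

set_option autoImplicit false

namespace K562.Rel

open MvPolynomial TensorProduct K562.FieldCI

universe u

/-- All fibres have dimension at most `m`. -/
def FibLE (R S : Type u) [CommRing R] [CommRing S] [Algebra R S] (m : ℕ) : Prop :=
  ∀ (p : Ideal R) [p.IsPrime], ringKrullDim (p.Fiber S) ≤ m

section Loc

/-- The dimension is bounded if it is so locally. -/
theorem ringKrullDim_le_of_forall_exists (A : Type u) [CommRing A] (m : ℕ)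
    (h : ∀ (Q : Ideal A) [Q.IsPrime], ∃ g : A, g ∉ Q ∧ ringKrullDim (Localization.Away g) ≤ m) :
    ringKrullDim A ≤ m := by
  rw [ringKrullDim_le_iff_height_le]
  intro Q hQ
  obtain ⟨g, hg, hdim⟩ := h Q
  have hdisj : Disjoint (Submonoid.powers g : Set A) (Q : Set A) := by
    rw [Set.disjoint_left]
    rintro _ ⟨k, rfl⟩ hk
    exact hg (hQ.mem_of_pow_mem k hk)
  have hP := IsLocalization.isPrime_of_isPrime_disjoint (Submonoid.powers g) (Localization.Away g) Q hQ hdisj
  have hPQ := IsLocalization.under_map_of_isPrime_disjoint (Submonoid.powers g) (Localization.Away g) hQ hdisj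
  have h1 := IsLocalization.height_under (Submonoid.powers g)
    (Q.map (algebraMap A (Localization.Away g)))
  rw [hPQ] at h1
  rw [h1]
  exact Ideal.height_le_ringKrullDim_of_isPrime.trans hdim

end Loc

section Fib

variable {R S : Type u} [CommRing R] [CommRing S] [Algebra R S]

theorem FibLE.of_algEquiv {T : Type u} [CommRing T] [Algebra R T] {m : ℕ} (h : FibLE R S m) (e : S ≃ₐ[R] T) :
    FibLE R T m := by
  intro p _
  rw [← ringKrullDim_eq_of_ringEquiv (fiberCongr e p).toRingEquiv]
  exact h p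

/-- The fibre of a base change. -/
noncomputable def fibBC (R' κ κ' : Type u) [CommRing R'] [Field κ] [Field κ'] [Algebra R R'] [Algebra R κ]
    [Algebra R' κ'] [Algebra R κ'] [IsScalarTower R R' κ'] [Algebra κ κ'] [IsScalarTower R κ κ'] :
    κ' ⊗[R'] (R' ⊗[R] S) ≃ₐ[κ'] κ' ⊗[κ] (κ ⊗[R] S) :=
  (Algebra.TensorProduct.cancelBaseChange R R' κ' κ' S).trans
    (Algebra.TensorProduct.cancelBaseChange R κ κ' κ' S).symm

theorem fibBC_tmul (R' κ κ' : Type u) [CommRing R'] [Field κ] [Field κ'] [Algebra R R'] [Algebra R κ]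
    [Algebra R' κ'] [Algebra R κ'] [IsScalarTower R R' κ'] [Algebra κ κ'] [IsScalarTower R κ κ'] (s : S) :
    fibBC (S := S) R' κ κ' ((1 : κ') ⊗ₜ[R'] ((1 : R') ⊗ₜ[R] s)) = (1 : κ') ⊗ₜ[κ] ((1 : κ) ⊗ₜ[R] s) := by
  simp [fibBC]

/-- The fibre of a base change at a prime. -/
theorem exists_fibBC (R' : Type u) [CommRing R'] [Algebra R R'] (p : Ideal R) [p.IsPrime] (p' : Ideal R') [p'.IsPrime]
    (hp : p = p'.comap (algebraMap R R')) :
    ∃ (_ : Algebra p.ResidueField p'.ResidueField), ∃ e : p'.Fiber (R' ⊗[R] S) ≃ₐ[p'.ResidueField]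
      p'.ResidueField ⊗[p.ResidueField] (p.Fiber S),
      ∀ s : S, e ((1 : p'.ResidueField) ⊗ₜ[R'] ((1 : R') ⊗ₜ[R] s)) =
        (1 : p'.ResidueField) ⊗ₜ[p.ResidueField] ((1 : p.ResidueField) ⊗ₜ[R] s) := by
  let _ : Algebra p.ResidueField p'.ResidueField := (Ideal.ResidueField.map p p' (algebraMap R R') hp).toAlgebra
  have _ : IsScalarTower R p.ResidueField p'.ResidueField := IsScalarTower.of_algebraMap_eq fun r => by
    rw [RingHom.algebraMap_toAlgebra, Ideal.ResidueField.map_algebraMap]
    rw [IsScalarTower.algebraMap_apply R R' p'.ResidueField]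
  exact ⟨inferInstance, fibBC R' p.ResidueField p'.ResidueField, fun s => fibBC_tmul _ _ _ s⟩

/-- The bound on the dimension of the fibres is stable under base change. -/
theorem FibLE.baseChange [Algebra.FiniteType R S] {m : ℕ} (h : FibLE R S m) (R' : Type u) [CommRing R'] [Algebra R R'] :
    FibLE R' (R' ⊗[R] S) m := by
  intro p' hp'
  obtain ⟨_, e, -⟩ := exists_fibBC (S := S) R' (p'.comap (algebraMap R R')) p' rfl
  have h1 : ringKrullDim (p'.Fiber (R' ⊗[R] S)) = ringKrullDim (p'.ResidueField ⊗[(p'.comap (algebraMap R R')).ResidueField]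
      ((p'.comap (algebraMap R R')).Fiber S)) := ringKrullDim_eq_of_ringEquiv e.toRingEquiv
  rw [h1, ringKrullDim_tensor]
  exact h _

/-- The bound on the dimension of the fibres is local on the source. -/
theorem FibLE.of_span {m : ℕ} (s : Set S) (hs : Ideal.span s = ⊤) (h : ∀ g ∈ s, FibLE R (Localization.Away g) m) :
    FibLE R S m := by
  intro p _
  refine ringKrullDim_le_of_forall_exists _ m fun Q _ => ?_
  have h1 : ∃ g ∈ s, (1 : p.ResidueField) ⊗ₜ[R] g ∉ Q := by
    by_contra hcon
    push Not at hcon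
    have h2 : Ideal.span s ≤ Q.comap (Algebra.TensorProduct.includeRight : S →ₐ[R] p.Fiber S).toRingHom := by
      rw [Ideal.span_le]
      exact hcon
    rw [hs, top_le_iff] at h2
    exact (inferInstance : (Q.comap (Algebra.TensorProduct.includeRight : S →ₐ[R] p.Fiber S).toRingHom).IsPrime).ne_top h2
  obtain ⟨g, hg, hgQ⟩ := h1
  refine ⟨_, hgQ, ?_⟩
  have h3 : ringKrullDim (Localization.Away ((1 : p.ResidueField) ⊗ₜ[R] g : p.Fiber S)) =
      ringKrullDim (p.Fiber (Localization.Away g)) :=
    (ringKrullDim_eq_of_ringEquiv (fiberAway p g).toRingEquiv).symm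
  rw [h3]
  exact h g hg p

/-- The locus of small fibres. -/
noncomputable def smallIdeal (R S : Type u) [CommRing R] [CommRing S] [Algebra R S] (m : ℕ) : Ideal S :=
  Ideal.span {g : S | FibLE R (Localization.Away g) m}

/-- If all fibres of a base change are small, the extension of the ideal of the locus of small fibres is trivial. -/
theorem smallIdeal_map_eq_top [Algebra.FiniteType R S] (R' : Type u) [CommRing R'] [Algebra R R'] (m : ℕ)
    (h : FibLE R' (R' ⊗[R] S) m) :
    (smallIdeal R S m).map (Algebra.TensorProduct.includeRight : S →ₐ[R] R' ⊗[R] S).toRingHom = ⊤ := by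
  by_contra hne
  obtain ⟨q, hq, hle⟩ := Ideal.exists_le_maximal _ hne
  let p' := q.comap (algebraMap R' (R' ⊗[R] S))
  let P : PrimeSpectrum R' := ⟨p', inferInstance⟩
  let e1 := PrimeSpectrum.preimageEquivFiber R' (R' ⊗[R] S) P
  let z := e1 ⟨⟨q, hq.isPrime⟩, rfl⟩
  have hz : z.asIdeal.comap (Algebra.TensorProduct.includeRight :
      (R' ⊗[R] S) →ₐ[R'] P.asIdeal.Fiber (R' ⊗[R] S)).toRingHom = q := by
    have h1 : e1.symm z = ⟨⟨q, hq.isPrime⟩, rfl⟩ := e1.symm_apply_apply _
    exact congrArg (fun y => y.1.asIdeal) h1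
  let p := p'.comap (algebraMap R R')
  obtain ⟨_, e, he⟩ := exists_fibBC (S := S) R' p p' rfl
  let Q1 : Ideal (p'.ResidueField ⊗[p.ResidueField] p.Fiber S) := z.asIdeal.comap (e.symm : _ →+* _)
  let Q0 : Ideal (p.Fiber S) := Q1.comap
    (Algebra.TensorProduct.includeRight.toRingHom : p.Fiber S →+* p'.ResidueField ⊗[p.ResidueField] p.Fiber S)
  have hloc := Groth.Agent.CalgC.LocalDimBC.localDim_baseChange (k := p.ResidueField) (K := p'.ResidueField)
    (S := p.Fiber S) Q0 Q1 rfl
  have h2 : FlatMor.localDim (PrimeSpectrum (p.Fiber S)) ⟨Q0, inferInstance⟩ ≤ m := by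
    rw [← hloc]
    refine (localDim_le_ringKrullDim _ _).trans ?_
    have h3 : ringKrullDim (p'.Fiber (R' ⊗[R] S)) = ringKrullDim (p'.ResidueField ⊗[p.ResidueField] p.Fiber S) :=
      ringKrullDim_eq_of_ringEquiv e.toRingEquiv
    rw [← h3]
    exact h p'
  obtain ⟨g, hg, hgm⟩ := exists_away_fiber_dim_le p Q0 _ rfl m h2
  apply hg
  have h3 : (1 : R') ⊗ₜ[R] g ∈ q :=
    hle (Ideal.mem_map_of_mem _ (Ideal.subset_span (show g ∈ {g : S | FibLE R (Localization.Away g) m} from hgm)))
  rw [← hz] at h3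
  change e.symm ((1 : p'.ResidueField) ⊗ₜ[p.ResidueField] ((1 : p.ResidueField) ⊗ₜ[R] g)) ∈ z.asIdeal
  rw [← he, AlgEquiv.symm_apply_apply]
  exact h3

/-- The localization at an element of the extension. -/
noncomputable def awayBC (R' : Type u) [CommRing R'] [Algebra R R'] (g : S) :
    R' ⊗[R] (Localization.Away g) ≃ₐ[R'] Localization.Away ((1 : R') ⊗ₜ[R] g : R' ⊗[R] S) :=
  IsLocalization.Away.tensorProductEquivTMulRight R R' g (Localization.Away g)

/-- If the extension of the ideal of the locus of small fibres is trivial, all fibres of the base change are small. -/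
theorem fibLE_of_smallIdeal_map_eq_top [Algebra.FiniteType R S] (R' : Type u) [CommRing R'] [Algebra R R'] (m : ℕ)
    (h : (smallIdeal R S m).map (Algebra.TensorProduct.includeRight : S →ₐ[R] R' ⊗[R] S).toRingHom = ⊤) :
    FibLE R' (R' ⊗[R] S) m := by
  rw [smallIdeal, Ideal.map_span] at h
  refine FibLE.of_span _ h ?_
  rintro _ ⟨g, hg, rfl⟩
  have hfp : Algebra.FinitePresentation S (Localization.Away g) := IsLocalization.Away.finitePresentation g
  have hft : Algebra.FiniteType R (Localization.Away g) := Algebra.FiniteType.trans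
    (S := S) (A := Localization.Away g) inferInstance inferInstance
  exact (FibLE.baseChange hg R').of_algEquiv (awayBC R' g)

end Fib

end K562.Rel
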